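import Cfsg.Agent.ClassPairs.Basic
import Cfsg.Agent.Characters.RepBasic
import Cfsg.Agent.Characters.Rational
import Cfsg.Agent.GaloisAverage.Basic
import Cfsg.Agent.BlocksCharsC.RegularSupport
import Cfsg.Agent.BlocksCyclic.Main
import Cfsg.Agent.SEmbed.ProjectiveLine
import Cfsg.Agent.CAGroups.Simple
import Cfsg.Agent.S4441

/-!
# A recognition of `SL(2, 2^a)` from a character of degree `p - 1`

Let `P` have order `p ≥ 5` with `C(P) = P` of index two in its normaliser, and let `χ` be a faithful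
irreducible character of degree `p - 1`.  Decomposing `χ θ + θ`, for an exceptional `θ`, gives
`∑ χ (χ - 1) (p - 1 - χ) = 0` over the p-regular elements; hence `χ` takes only the values `0`, `1`
there, the order is `p (p - 1) (p - 2)` and every involution has elementary abelian centraliser.
-/

set_option autoImplicit false
set_option linter.unusedSectionVars false
set_option linter.style.haveILetI false

namespace CfsgLib.PrimeDegreeTwoP

open CfsgLib.Characters
open scoped ComplexConjugate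

universe u

variable {G : Type u} [Group G] [Fintype G]

/-- The sum of a character over a subgroup is a multiple of its order. -/
theorem exists_sum_subgroup {χ : G → ℂ} (hχ : Cfsg.IsCharacter G χ) (H : Subgroup G) [Fintype H] :
    ∃ m : ℕ, ∑ h : H, χ h = (Nat.card H : ℂ) * m := by
  obtain ⟨m, hm⟩ := classInner_character_irr (isCharacter_restrict H hχ) (isIrr_one (G := H))
  refine ⟨m, ?_⟩
  rw [← hm, Cfsg.classInner, ← mul_assoc, mul_inv_cancel₀ (natCard_ne_zero (G := H)), one_mul]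
  exact Finset.sum_congr rfl fun h _ => by simp

/-- The elements conjugating `t` to a given conjugate number the centraliser order. -/
theorem card_conjugators {t v : G} (h : IsConj t v) :
    Nat.card {b : G // b * t * b⁻¹ = v} = Nat.card (Subgroup.centralizer ({t} : Set G)) :=
  Nat.cast_injective (R := ℂ) (by rw [← sum_irr_mul_conj, sum_irr_mul_conj_of_isConj h])

theorem core {p : ℕ} [Fact p.Prime] (hp5 : 5 ≤ p) (P : Sylow p G) (hPp : Nat.card (P : Subgroup G) = p)
    (hC : Subgroup.centralizer ((P : Subgroup G) : Set G) = P)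
    (hrel : (P : Subgroup G).relIndex (Subgroup.normalizer ((P : Subgroup G) : Set G)) = 2)
    (χ : Cfsg.IrrCharacter G) (hdeg : Cfsg.charDegree (χ : G → ℂ) = p - 1)
    (hfaith : ∀ g : G, (χ : G → ℂ) g = (χ : G → ℂ) 1 → g = 1) :
    ∃ (a : ℕ) (F : Type) (_ : Field F) (_ : Fintype F), p = 2 ^ a + 1 ∧ Fintype.card F = 2 ^ a ∧
      Nonempty (G ≃* Matrix.SpecialLinearGroup (Fin 2) F) := by
  classical
  have hp : p.Prime := Fact.out
  have hodd : p % 2 = 1 := (hp.eq_two_or_odd).resolve_left (by omega)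
  set N := Subgroup.normalizer ((P : Subgroup G) : Set G) with hNdef
  have hN : Nat.card N = 2 * p := by
    have h := Subgroup.relIndex_mul_relIndex ⊥ (P : Subgroup G) N bot_le Subgroup.le_normalizer
    rw [Subgroup.relIndex_bot_left, Subgroup.relIndex_bot_left, hrel, hPp, mul_comm] at h
    exact h.symm
  obtain ⟨x, hxP, hx1⟩ := CfsgLib.BlocksCyclic.exists_generator hPp
  have horder : ∀ w ∈ (P : Subgroup G), w ≠ 1 → orderOf w = p := fun w hw hw1 =>
    CfsgLib.BlocksCyclic.orderOf_generator hPp hw hw1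
  have hxo : orderOf x = p := horder x hxP hx1
  have hzp : ∀ w ∈ (P : Subgroup G), ∃ k : ℕ, x ^ k = w := by
    intro w hw
    have hz : Subgroup.zpowers x = (P : Subgroup G) := Subgroup.eq_of_le_of_card_ge
      (Subgroup.zpowers_le.2 hxP) (by rw [Nat.card_zpowers, hxo, hPp])
    obtain ⟨k, hk⟩ := mem_powers_iff_mem_zpowers.2 (hz.symm ▸ hw : w ∈ Subgroup.zpowers x)
    exact ⟨k, hk⟩
  have hcentw : ∀ w ∈ (P : Subgroup G), w ≠ 1 →
      Subgroup.centralizer ({w} : Set G) = (P : Subgroup G) := fun w hw hw1 => by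
    rw [CfsgLib.BlocksCyclic.centralizer_generator hPp hw hw1, hC]
  have hcent : ∀ σ : G, σ * x = x * σ → σ ∈ (P : Subgroup G) := fun σ hσ => by
    rw [← hcentw x hxP hx1, Subgroup.mem_centralizer_singleton_iff]
    exact hσ
  -- singular elements
  have hsing : ∀ g : G, p ∣ orderOf g → ∃ w ∈ (P : Subgroup G), w ≠ 1 ∧ IsConj g w := by
    intro g hg
    set h := g ^ (orderOf g / p)
    have ho : orderOf h = p := by
      rw [orderOf_pow_of_dvd (Nat.div_pos (Nat.le_of_dvd (orderOf_pos g) hg) hp.pos).ne'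
        (Nat.div_dvd_of_dvd hg), Nat.div_div_self hg (orderOf_pos g).ne']
    obtain ⟨Q, hQ⟩ := (IsPGroup.of_card (p := p) (n := 1)
      (by rw [Nat.card_zpowers, ho, pow_one] : Nat.card (Subgroup.zpowers h) = p ^ 1)).exists_le_sylow
    obtain ⟨c, hc⟩ := MulAction.exists_smul_eq G Q P
    have hmem : c * h * c⁻¹ ∈ (P : Subgroup G) := by
      rw [← hc]
      exact Subgroup.mem_map.2 ⟨h, hQ (Subgroup.mem_zpowers h), rfl⟩
    have hne : c * h * c⁻¹ ≠ 1 := fun e => by
      rw [conj_eq_one_iff.1 e, orderOf_one] at ho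
      omega
    have hcg : c * g * c⁻¹ ∈ (P : Subgroup G) := by
      rw [← hcentw _ hmem hne, Subgroup.mem_centralizer_singleton_iff]
      have : g * h = h * g := (Commute.self_pow g _).eq
      calc c * g * c⁻¹ * (c * h * c⁻¹) = c * (g * h) * c⁻¹ := by group
        _ = c * h * c⁻¹ * (c * g * c⁻¹) := by rw [this]; group
    refine ⟨_, hcg, fun e => ?_, isConj_iff.2 ⟨c, rfl⟩⟩
    rw [conj_eq_one_iff.1 e, orderOf_one] at hg
    exact hp.not_dvd_one hg
  -- inverting involutions
  have hconjinv : ∀ a b : G, a * a = 1 → a * x * a⁻¹ = x⁻¹ → b * x * b⁻¹ = x⁻¹ → IsConj a b := by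
    intro a b haa ha hb
    have hai : a⁻¹ = a := inv_eq_of_mul_eq_one_right haa
    have hw : a * b ∈ (P : Subgroup G) := by
      refine hcent _ ?_
      have e1 : b * x = x⁻¹ * b := by rw [← hb]; group
      have e2 : a * x⁻¹ = x * a := by
        have h6 : a * x⁻¹ * a⁻¹ = x := by rw [← conj_inv, ha, inv_inv]
        exact mul_inv_eq_iff_eq_mul.1 h6
      rw [mul_assoc, e1, ← mul_assoc, e2, mul_assoc]
    obtain ⟨k, hk⟩ := hzp _ hw
    refine isConj_iff.2 ⟨(x ^ (k * ((p + 1) / 2)))⁻¹, ?_⟩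
    have hpow : a * (x ^ (k * ((p + 1) / 2)))⁻¹ * a⁻¹ = x ^ (k * ((p + 1) / 2)) := by
      rw [← conj_inv, ← conj_pow, ha, inv_pow, inv_inv]
    have hsq : x ^ (k * ((p + 1) / 2)) * x ^ (k * ((p + 1) / 2)) = x ^ k := by
      rw [← pow_add, show k * ((p + 1) / 2) + k * ((p + 1) / 2) = k * p + k by
        rw [← mul_add, show (p + 1) / 2 + (p + 1) / 2 = p + 1 by omega]; ring, pow_add, pow_mul',
        ← hxo, pow_orderOf_eq_one, one_pow, one_mul]
    have e3 : (x ^ (k * ((p + 1) / 2)))⁻¹ * a = a * x ^ (k * ((p + 1) / 2)) := by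
      have h5 := congrArg (a * ·) hpow
      simp only [← mul_assoc, haa, one_mul, hai] at h5
      exact h5
    rw [inv_inv, e3, mul_assoc, hsq, hk, ← mul_assoc, haa, one_mul]
  obtain ⟨t, hto, htx⟩ : ∃ t : G, orderOf t = 2 ∧ t * x * t⁻¹ = x⁻¹ := by
    haveI := Fact.mk Nat.prime_two
    obtain ⟨t, ht⟩ := exists_prime_orderOf_dvd_card' (G := N) 2 (by rw [hN]; exact dvd_mul_right 2 p)
    have hto : orderOf (t : G) = 2 := by rw [Subgroup.orderOf_coe, ht]
    refine ⟨t, hto, ?_⟩
    obtain ⟨k, hk⟩ := hzp _ ((Subgroup.mem_normalizer_iff.1 t.2 x).1 hxP)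
    have htt : (t : G) * t = 1 := by rw [← pow_two, ← hto, pow_orderOf_eq_one]
    have hkk : x ^ (k * k) = x ^ 1 := by
      rw [pow_mul, hk, conj_pow, hk, pow_one, ← mul_assoc, ← mul_assoc, htt, one_mul,
        inv_eq_of_mul_eq_one_right htt, mul_assoc, htt, mul_one]
    rw [pow_eq_pow_iff_modEq, hxo, ← ZMod.natCast_eq_natCast_iff, Nat.cast_mul, Nat.cast_one]
      at hkk
    rcases mul_self_eq_one_iff.1 hkk with h | h
    · exfalso
      have hk1 : x ^ k = x ^ 1 := by
        rw [pow_eq_pow_iff_modEq, hxo, ← ZMod.natCast_eq_natCast_iff, h, Nat.cast_one]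
      rw [pow_one, hk] at hk1
      have hmem := hcent (t : G) (mul_inv_eq_iff_eq_mul.1 hk1)
      have hd := Subgroup.orderOf_dvd_natCard (P : Subgroup G) hmem
      rw [hto, hPp] at hd
      have := (Nat.prime_dvd_prime_iff_eq Nat.prime_two hp).1 hd
      omega
    · rw [← hk, eq_inv_iff_mul_eq_one, ← pow_succ, ← orderOf_dvd_iff_pow_eq_one, hxo,
        ← ZMod.natCast_eq_zero_iff, Nat.cast_add, Nat.cast_one, h, neg_add_cancel]
  have htt : t * t = 1 := by rw [← pow_two, ← hto, pow_orderOf_eq_one]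
  -- the block
  obtain ⟨M, hM⟩ := CfsgLib.Blocks.exists_isPModular p hp
  haveI : M.IsPrime := CfsgLib.Blocks.IsPModular.isPrime hM
  set B := Cfsg.principalBlock M G with hBdef
  obtain ⟨X, Y, hB, hdisj, hXc, hYc, εX, ε, hX, hε, hYd, hYreg, hid⟩ :=
    Cfsg.Agent.S4441.result p M hM (by omega) P hPp 2 (by rw [hC, hrel])
  have houtB : ∀ w ∈ (P : Subgroup G), w ≠ 1 → ∀ ψ : Cfsg.IrrCharacter G, ψ ∉ B →
      (ψ : G → ℂ) w = 0 := by
    intro w hw hw1
    have hall := sum_irr_mul_conj_of_isConj (IsConj.refl w)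
    have hblk := CfsgLib.BlocksCyclic.sum_principal_mul_conj hPp hw hw1 hM hw
    rw [hcentw w hw hw1, hPp, ← Finset.sum_filter_add_sum_filter_not Finset.univ
      (fun ψ => ψ ∈ B)] at hall
    rw [if_pos (IsConj.refl w), ← Finset.sum_filter, ← hBdef] at hblk
    rw [hblk, add_eq_left] at hall
    intro ψ hψ
    have hre := congrArg Complex.re hall
    simp only [Complex.mul_conj, Complex.re_sum, Complex.ofReal_re, Complex.zero_re] at hre
    exact Complex.normSq_eq_zero.1 ((Finset.sum_eq_zero_iff_of_nonneg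
      fun ψ _ => Complex.normSq_nonneg _).1 hre ψ (Finset.mem_filter.2 ⟨Finset.mem_univ _, hψ⟩))
  have hd1 : (χ : G → ℂ) 1 = (p : ℂ) - 1 := by
    obtain ⟨n, -, hn, hn', -⟩ := CfsgLib.ClassPairs.exists_irr_degree χ
    rw [hn, ← hn', hdeg, Nat.cast_sub hp.one_le, Nat.cast_one]
  have hchar := isCharacter_of_isIrr χ.2
  -- a character of degree prime to `p` lies in the principal block
  have hinB : ∀ ψ : Cfsg.IrrCharacter G, Cfsg.charDegree (ψ : G → ℂ) = p - 1 → ψ ∈ B := by
    intro ψ hψd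
    by_contra hψ
    haveI : Fintype (P : Subgroup G) := Fintype.ofFinite _
    obtain ⟨m, hm⟩ := exists_sum_subgroup (isCharacter_of_isIrr ψ.2) (P : Subgroup G)
    rw [Finset.sum_eq_single (1 : (P : Subgroup G))
      (fun w _ hw => houtB w w.2 (fun e => hw (Subtype.ext e)) ψ hψ) (by simp), hPp] at hm
    obtain ⟨n, -, hn, hn', -⟩ := CfsgLib.ClassPairs.exists_irr_degree ψ
    rw [OneMemClass.coe_one, hn, ← hn', hψd] at hm
    have h' : p - 1 = p * m := by exact_mod_cast hm
    have : p ∣ p - 1 := ⟨m, h'⟩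
    have := Nat.le_of_dvd (by omega) this
    omega
  have htriv := isIrr_one (G := G)
  set triv : Cfsg.IrrCharacter G := ⟨fun _ => 1, htriv⟩ with htrivdef
  have hdegtriv : Cfsg.charDegree (triv : G → ℂ) = 1 := by simp [Cfsg.charDegree, htrivdef]
  have hYne : ∀ ψ : Cfsg.IrrCharacter G, (Cfsg.charDegree (ψ : G → ℂ) = 1 ∨
      Cfsg.charDegree (ψ : G → ℂ) = p - 1) → ψ ∉ Y := by
    intro ψ hd hY
    have h := hYd ψ hY
    have hcases : ((p : ℕ) : ℤ) ∣ 1 ∨ ((p : ℕ) : ℤ) ∣ 3 := by
      have hp1 : (((p - 1 : ℕ) : ℤ)) = (p : ℤ) - 1 := by omega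
      rw [Int.modEq_iff_dvd] at h
      rcases hd with hd | hd <;> rcases hε with rfl | rfl <;> rw [hd] at h <;>
        obtain ⟨k, hk⟩ := h
      · left; exact ⟨k, by push_cast at hk; linear_combination hk⟩
      · right; exact ⟨-k, by push_cast at hk; linear_combination -hk⟩
      · right; exact ⟨k + 1, by rw [hp1] at hk; push_cast at hk; linear_combination hk⟩
      · left; exact ⟨-k - 1, by rw [hp1] at hk; push_cast at hk; linear_combination -hk⟩
    rcases hcases with h | h <;>
    · have := Int.le_of_dvd (by norm_num) h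
      omega
  have hne : triv ≠ χ := fun h => by
    rw [← h, hdegtriv] at hdeg
    omega
  have htX : triv ∈ X := ((Set.mem_union _ _ _).1 (hB ▸ CfsgLib.PrincipalBlock.trivChar_mem)
    ).resolve_right (hYne _ (Or.inl hdegtriv))
  have hinX : ∀ ψ : Cfsg.IrrCharacter G, Cfsg.charDegree (ψ : G → ℂ) = p - 1 → ψ ∈ X := by
    intro ψ hψd
    have h := hinB ψ hψd
    rw [hBdef, hB] at h
    exact h.resolve_right (hYne _ (Or.inr hψd))
  have hXeq : X = {triv, χ} := (Set.eq_of_subset_of_ncard_le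
    (Set.insert_subset htX (Set.singleton_subset_iff.2 (hinX χ hdeg)))
    (by rw [Set.ncard_pair hne, ← Nat.card_coe_set_eq, hXc]) (Set.toFinite _)).symm
  -- rationality
  have hfix : ∀ k : ℕ, k.Coprime (Nat.card G) → ∀ g : G, (χ : G → ℂ) (g ^ k) = (χ : G → ℂ) g := by
    intro k hk g
    set χ' := CfsgLib.BlocksCharsC.powIrr k hk χ with hχ'
    have hval : ∀ g, (χ' : G → ℂ) g = (χ : G → ℂ) (g ^ k) := fun g => rfl
    have hd' : Cfsg.charDegree (χ' : G → ℂ) = p - 1 := by
      rw [← hdeg]; simp only [Cfsg.charDegree, hval, one_pow]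
    have hmem := hinX χ' hd'
    rw [hXeq, Set.mem_insert_iff, Set.mem_singleton_iff] at hmem
    rcases hmem with h | h
    · exfalso; rw [h, hdegtriv] at hd'; omega
    · rw [← hval, h]
  have hint : ∀ g : G, ∃ z : ℤ, (χ : G → ℂ) g = z := by
    intro g
    obtain ⟨q, hq⟩ := rat_of_pow_invariant hchar g (fun k hk => hfix k hk g)
    obtain ⟨z, hz⟩ := CfsgLib.GaloisAverage.exists_int_of_isIntegral_ratCast
      (hq ▸ character_isIntegral hchar g : IsIntegral ℤ (q : ℂ))
    exact ⟨z, hq.trans hz⟩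
  choose v hv using hint
  have hreal : ∀ g, conj ((χ : G → ℂ) g) = (χ : G → ℂ) g := fun g => by rw [hv, map_intCast]
  have hv1 : v 1 = (p : ℤ) - 1 := by
    have := hd1
    rw [hv] at this
    exact_mod_cast this
  have hεχ : εX χ = -1 := by
    obtain ⟨hs, hd, -⟩ := hX χ (hinX χ hdeg)
    refine hs.resolve_left fun h => ?_
    rw [h, hdeg, Int.modEq_iff_dvd] at hd
    obtain ⟨k, hk⟩ := hd
    have h2 : (p : ℤ) ∣ 2 := ⟨k + 1, by
      rw [show (((p - 1 : ℕ) : ℤ)) = (p : ℤ) - 1 by omega] at hk; linear_combination hk⟩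
    have := Int.le_of_dvd (by norm_num) h2
    omega
  have hχP : ∀ w ∈ (P : Subgroup G), w ≠ 1 → (χ : G → ℂ) w = -1 := by
    intro w hw hw1
    obtain ⟨-, -, hvv⟩ := hX χ (hinX χ hdeg)
    have := hvv w hw hw1 1 (one_mem _) (by rw [orderOf_one]; exact hp.not_dvd_one)
    rw [mul_one, hεχ] at this
    simpa using this
  have hχS : ∀ g : G, p ∣ orderOf g → v g = -1 := by
    intro g hg
    obtain ⟨w, hw, hw1, hc⟩ := hsing g hg
    have : (χ : G → ℂ) g = -1 := by
      rw [classFunction_isConj (isClassFunction_of_isIrr χ.2) hc, hχP w hw hw1]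
    rw [hv] at this
    exact_mod_cast this
  have hεt : εX triv = 1 := by
    obtain ⟨-, -, hvv⟩ := hX triv htX
    have h' : (1 : ℂ) = (εX triv : ℂ) :=
      hvv x hxP hx1 1 (one_mem _) (by rw [orderOf_one]; exact hp.not_dvd_one)
    exact_mod_cast h'.symm
  -- the exceptional characters
  set YF := Finset.univ.filter (fun ψ : Cfsg.IrrCharacter G => ψ ∈ Y) with hYF
  have hYFc : 2 * YF.card + 1 = p := by
    rw [hYF, ← Fintype.card_subtype, ← Nat.card_eq_fintype_card]
    have : Nat.card {ψ : Cfsg.IrrCharacter G // ψ ∈ Y} = (p - 1) / 2 := hYc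
    rw [this]; omega
  have hθ : ∀ θ ∈ YF, ∀ g : G, ¬ p ∣ orderOf g → (θ : G → ℂ) g = (χ : G → ℂ) g - 1 := by
    intro θ hθ
    have hθY := (Finset.mem_filter.1 hθ).2
    have hgen : ∀ g : G, ¬ p ∣ orderOf g →
        (ε : ℂ) * (θ : G → ℂ) g = 1 - (χ : G → ℂ) g := by
      intro g hg
      rw [hid θ hθY g hg, hXeq, finsum_mem_pair hne, hεt, hεχ]
      simp [htrivdef]; ring
    have hone' := hgen 1 (by rw [orderOf_one]; exact hp.not_dvd_one)
    obtain ⟨n, hn, hn', -, -⟩ := CfsgLib.ClassPairs.exists_irr_degree θ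
    rw [hn', hd1] at hone'
    have hε' : ε = -1 := by
      refine hε.resolve_left fun h => ?_
      rw [h, Int.cast_one, one_mul] at hone'
      have : (n : ℝ) = 1 - ((p : ℝ) - 1) := by simpa using congrArg Complex.re hone'
      have h5 : (5 : ℝ) ≤ p := by exact_mod_cast hp5
      have : (0 : ℝ) ≤ n := Nat.cast_nonneg n
      linarith
    intro g hg
    have := hgen g hg
    rw [hε', Int.cast_neg, Int.cast_one] at this
    linear_combination -this
  have hθ1 : ∀ θ ∈ YF, (θ : G → ℂ) 1 = (p : ℂ) - 2 := fun θ h => by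
    rw [hθ θ h 1 (by rw [orderOf_one]; exact hp.not_dvd_one), hd1]; ring
  have hne' : ∀ θ ∈ YF, θ ≠ triv ∧ θ ≠ χ := fun θ h =>
    ⟨fun e => hYne _ (Or.inl hdegtriv) (e ▸ (Finset.mem_filter.1 h).2),
      fun e => hYne _ (Or.inr hdeg) (e ▸ (Finset.mem_filter.1 h).2)⟩
  have hp2 : ((p : ℂ) - 2) ≠ 0 := sub_ne_zero.2 (by exact_mod_cast (by omega : p ≠ 2))
  have hsplit : ∀ F : Cfsg.IrrCharacter G → ℂ, (∀ ψ, ψ ∉ B → F ψ = 0) →
      ∑ ψ, F ψ = F triv + F χ + ∑ ψ ∈ YF, F ψ := by
    intro F hF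
    have hd : Disjoint ({triv, χ} : Finset (Cfsg.IrrCharacter G)) YF := by
      rw [Finset.disjoint_left]
      intro ψ hψ hψY
      simp only [Finset.mem_insert, Finset.mem_singleton] at hψ
      rcases hψ with rfl | rfl
      · exact (hne' _ hψY).1 rfl
      · exact (hne' _ hψY).2 rfl
    rw [← Finset.sum_subset (Finset.subset_univ (({triv, χ} : Finset _) ∪ YF)),
      Finset.sum_union hd, Finset.sum_pair hne]
    intro ψ _ hψ
    refine hF ψ fun hψB => hψ ?_
    rw [hBdef, hB] at hψB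
    rcases (Set.mem_union _ _ _).1 hψB with h | h
    · rw [hXeq] at h
      exact Finset.mem_union_left _ (by simpa using h)
    · exact Finset.mem_union_right _ (Finset.mem_filter.2 ⟨Finset.mem_univ _, h⟩)
  have hθP : ∀ w ∈ (P : Subgroup G), w ≠ 1 → ∑ θ ∈ YF, (θ : G → ℂ) w = 1 := by
    intro w hw hw1
    have h := sum_degree_mul w
    rw [if_neg hw1, hsplit _ (fun ψ hψ => by rw [houtB w hw hw1 ψ hψ, mul_zero])] at h
    rw [Finset.sum_congr rfl (fun θ hθ' => by rw [hθ1 θ hθ']), ← Finset.mul_sum] at h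
    simp only [hχP w hw hw1, hd1, htrivdef] at h
    refine mul_left_cancel₀ hp2 ?_
    linear_combination h
  have hθS : ∀ g : G, p ∣ orderOf g → ∑ θ ∈ YF, (θ : G → ℂ) g = 1 := by
    intro g hg
    obtain ⟨w, hw, hw1, hc⟩ := hsing g hg
    rw [← hθP w hw hw1]
    exact Finset.sum_congr rfl fun θ _ => classFunction_isConj (isClassFunction_of_isIrr θ.2) hc
  -- moments over the regular elements
  set R := Finset.univ.filter (fun g : G => ¬ p ∣ orderOf g) with hR
  set S := Finset.univ.filter (fun g : G => p ∣ orderOf g) with hS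
  have htot : ∀ F : G → ℂ, ∑ g, F g = ∑ g ∈ S, F g + ∑ g ∈ R, F g := fun F =>
    (Finset.sum_filter_add_sum_filter_not Finset.univ (fun g : G => p ∣ orderOf g) F).symm
  have hR0 : ∀ F : G → ℂ, (∀ g, p ∣ orderOf g → F g = 0) → ∑ g, F g = ∑ g ∈ R, F g := by
    intro F hF
    rw [htot, Finset.sum_eq_zero (fun g hg => hF g (Finset.mem_filter.1 hg).2), zero_add]
  have hinner : ∀ ψ φ : Cfsg.IrrCharacter G, ∑ g, (ψ : G → ℂ) g * conj ((φ : G → ℂ) g) =
      if ψ = φ then (Nat.card G : ℂ) else 0 := by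
    intro ψ φ
    have h := classInner_irr ψ φ
    rw [Cfsg.classInner, inv_mul_eq_iff_eq_mul₀ natCard_ne_zero] at h
    rw [h]; split_ifs <;> simp
  have hconjR : ∀ θ ∈ YF, ∀ g, ¬ p ∣ orderOf g →
      conj ((θ : G → ℂ) g) = (χ : G → ℂ) g - 1 := by
    intro θ hθ' g hg
    rw [hθ θ hθ' g hg, map_sub, hreal, map_one]
  obtain ⟨θ₀, hθ₀⟩ : YF.Nonempty := Finset.card_pos.1 (by omega)
  have hsum1 : ∀ ψ : Cfsg.IrrCharacter G, ψ ≠ triv → ∑ g, (ψ : G → ℂ) g = 0 := by
    intro ψ hψ
    have h := hinner ψ triv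
    rw [if_neg hψ] at h
    simpa [htrivdef] using h
  -- `∑ χ θ conj ψ`
  have hprod : Cfsg.IsCharacter G (fun g => (χ : G → ℂ) g * (θ₀ : G → ℂ) g) :=
    isCharacter_mul hchar (isCharacter_of_isIrr θ₀.2)
  choose m hm using fun ψ : Cfsg.IrrCharacter G => classInner_character_irr hprod ψ.2
  have hm' : ∀ ψ : Cfsg.IrrCharacter G,
      ∑ g, (χ : G → ℂ) g * (θ₀ : G → ℂ) g * conj ((ψ : G → ℂ) g) = (m ψ : ℂ) * Nat.card G := by
    intro ψ
    have h := hm ψ
    rw [Cfsg.classInner, inv_mul_eq_iff_eq_mul₀ natCard_ne_zero] at h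
    rw [h, mul_comm]
  have hF : ∀ ψ : Cfsg.IrrCharacter G,
      ((m ψ : ℂ) + if θ₀ = ψ then 1 else 0) * Nat.card G =
        ∑ g ∈ R, ((χ : G → ℂ) g + 1) * ((χ : G → ℂ) g - 1) * conj ((ψ : G → ℂ) g) := by
    intro ψ
    rw [add_mul, ite_mul, one_mul, zero_mul, ← hm', ← hinner θ₀ ψ, ← Finset.sum_add_distrib,
      hR0 _ (fun g hg => by rw [hv g, hχS g hg]; push_cast; ring)]
    refine Finset.sum_congr rfl fun g hg => ?_
    rw [hθ θ₀ hθ₀ g (Finset.mem_filter.1 hg).2]; ring
  set M1 : ℂ := ∑ g ∈ R, (χ : G → ℂ) g with hM1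
  set M2 : ℂ := ∑ g ∈ R, (χ : G → ℂ) g ^ 2 with hM2
  set M3 : ℂ := ∑ g ∈ R, (χ : G → ℂ) g ^ 3 with hM3
  have hns : (R.card : ℂ) + S.card = Nat.card G := by
    rw [← Nat.cast_add, Nat.card_eq_fintype_card, add_comm]
    congr 1
    exact Finset.card_filter_add_card_filter_not _
  have hA : M2 = R.card := by
    have h := hF triv
    rw [if_neg (hne' θ₀ hθ₀).1, add_zero] at h
    have h0 : (m triv : ℂ) * Nat.card G = 0 := by
      rw [← hm']
      have h2 := hinner θ₀ χ
      rw [if_neg (hne' θ₀ hθ₀).2] at h2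
      rw [← h2]
      refine Finset.sum_congr rfl fun g _ => ?_
      rw [hreal]; simp [htrivdef, mul_comm]
    rw [h0] at h
    have e : ∑ g ∈ R, ((χ : G → ℂ) g + 1) * ((χ : G → ℂ) g - 1) * conj ((triv : G → ℂ) g) =
        M2 - R.card := by
      rw [hM2, Finset.card_eq_sum_ones, Nat.cast_sum, ← Finset.sum_sub_distrib]
      refine Finset.sum_congr rfl fun g _ => ?_
      simp [htrivdef]; ring
    rw [e] at h
    linear_combination -h
  have hT : ∀ θ ∈ YF, ∑ g ∈ R, ((χ : G → ℂ) g + 1) * ((χ : G → ℂ) g - 1) * conj ((θ : G → ℂ) g) =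
      M3 - M1 := by
    intro θ hθ'
    have e : ∑ g ∈ R, ((χ : G → ℂ) g + 1) * ((χ : G → ℂ) g - 1) * conj ((θ : G → ℂ) g) =
        M3 - M2 - M1 + R.card := by
      rw [hM3, hM2, hM1, Finset.card_eq_sum_ones, Nat.cast_sum, ← Finset.sum_sub_distrib,
        ← Finset.sum_sub_distrib, ← Finset.sum_add_distrib]
      refine Finset.sum_congr rfl fun g hg => ?_
      rw [hconjR θ hθ' g (Finset.mem_filter.1 hg).2]; push_cast; ring
    rw [e, hA]; ring
  have hTχ : ∑ g ∈ R, ((χ : G → ℂ) g + 1) * ((χ : G → ℂ) g - 1) * conj ((χ : G → ℂ) g) =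
      M3 - M1 := by
    rw [hM3, hM1, ← Finset.sum_sub_distrib]
    exact Finset.sum_congr rfl fun g _ => by rw [hreal]; ring
  have hG0 : (Nat.card G : ℂ) ≠ 0 := natCard_ne_zero
  have hm0 : m θ₀ = 0 := by
    have h0 := (hF θ₀).trans (hT θ₀ hθ₀)
    rw [if_pos rfl] at h0
    have hmθ : ∀ θ ∈ YF, θ ≠ θ₀ → m θ = m θ₀ + 1 := by
      intro θ hθ' hne''
      have h := (hF θ).trans (hT θ hθ')
      rw [if_neg (Ne.symm hne''), add_zero] at h
      have := mul_right_cancel₀ hG0 (h.trans h0.symm)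
      exact_mod_cast this
    have hmχ : m χ = m θ₀ + 1 := by
      have h := (hF χ).trans hTχ
      rw [if_neg (hne' θ₀ hθ₀).2, add_zero] at h
      have := mul_right_cancel₀ hG0 (h.trans h0.symm)
      exact_mod_cast this
    by_contra hpos
    have hdeg' := congrFun (character_expansion hprod) 1
    simp only [hm, Finset.sum_apply, Pi.smul_apply, smul_eq_mul, hd1, hθ1 θ₀ hθ₀] at hdeg'
    choose d hd0 hd hd' _hd'' using fun ψ : Cfsg.IrrCharacter G =>
      CfsgLib.ClassPairs.exists_irr_degree ψ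
    have hdχ : d χ = p - 1 := by rw [← hd', hdeg]
    have hdθ : ∀ θ ∈ YF, d θ = p - 2 := by
      intro θ hθ'
      have h := (hd θ).symm.trans (hθ1 θ hθ')
      rw [show ((p : ℂ) - 2) = ((p - 2 : ℕ) : ℂ) by rw [Nat.cast_sub (by omega)]; norm_num] at h
      exact_mod_cast h
    have heq : (p - 1) * (p - 2) = ∑ ψ, m ψ * d ψ := by
      have h : (((p - 1) * (p - 2) : ℕ) : ℂ) = ((∑ ψ, m ψ * d ψ : ℕ) : ℂ) := by
        rw [Nat.cast_mul, Nat.cast_sub hp.one_le, Nat.cast_sub (by omega : 2 ≤ p), Nat.cast_one,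
          Nat.cast_two, hdeg', Nat.cast_sum]
        exact Finset.sum_congr rfl fun ψ _ => by rw [Nat.cast_mul, hd]
      exact_mod_cast h
    have hle := Finset.sum_le_sum_of_subset (f := fun ψ => m ψ * d ψ)
      (Finset.subset_univ (insert χ YF))
    rw [← heq, Finset.sum_insert (fun h => (hne' χ h).2 rfl), ← Finset.add_sum_erase YF _ hθ₀,
      Finset.sum_congr rfl (g := fun _ => (m θ₀ + 1) * (p - 2)) (fun θ hθ' => by
        rw [hmθ θ (Finset.mem_of_mem_erase hθ') (Finset.ne_of_mem_erase hθ'),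
          hdθ θ (Finset.mem_of_mem_erase hθ')]), Finset.sum_const, smul_eq_mul,
      Finset.card_erase_of_mem hθ₀, hmχ, hdχ, hdθ θ₀ hθ₀] at hle
    have h1 : 2 * (p - 1) ≤ (m θ₀ + 1) * (p - 1) := Nat.mul_le_mul_right _ (by omega)
    have h2 : 1 * (p - 2) ≤ m θ₀ * (p - 2) := Nat.mul_le_mul_right _ (by omega)
    have h3 : (YF.card - 1) * (2 * (p - 2)) ≤ (YF.card - 1) * ((m θ₀ + 1) * (p - 2)) :=
      Nat.mul_le_mul_left _ (Nat.mul_le_mul_right _ (by omega))
    obtain ⟨q, hq⟩ : ∃ q, YF.card = q + 2 := ⟨YF.card - 2, by omega⟩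
    have hpq : p = 2 * q + 5 := by omega
    rw [hq] at h3 hle
    rw [hpq] at h1 h2 h3 hle
    simp only [show 2 * q + 5 - 1 = 2 * q + 4 by omega, show 2 * q + 5 - 2 = 2 * q + 3 by omega,
      show q + 2 - 1 = q + 1 by omega] at h1 h2 h3 hle
    nlinarith
  have hB' : M3 - M1 = Nat.card G := by
    have h0 := (hF θ₀).trans (hT θ₀ hθ₀)
    rw [if_pos rfl, hm0, Nat.cast_zero, zero_add, one_mul] at h0
    exact h0.symm
  have hC1 : M1 = S.card := by
    have h := hsum1 χ (Ne.symm hne)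
    rw [htot, Finset.sum_congr rfl (g := fun _ => (-1 : ℂ)) (fun g hg => by
      rw [hv, hχS g (Finset.mem_filter.1 hg).2]; norm_num), Finset.sum_const, nsmul_eq_mul] at h
    linear_combination h
  have hD : ((YF.card : ℂ) + 1) * M1 = YF.card * R.card := by
    have h : ∑ g, ((χ : G → ℂ) g + ∑ θ ∈ YF, (θ : G → ℂ) g) = 0 := by
      rw [Finset.sum_add_distrib, hsum1 χ (Ne.symm hne), zero_add, Finset.sum_comm]
      exact Finset.sum_eq_zero fun θ hθ' => hsum1 θ (hne' θ hθ').1
    rw [hR0 _ (fun g hg => by rw [hθS g hg, hv, hχS g hg]; norm_num)] at h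
    rw [Finset.sum_congr rfl (g := fun g => ((YF.card : ℂ) + 1) * (χ : G → ℂ) g - YF.card)
      (fun g hg => by
        rw [Finset.sum_congr rfl (fun θ hθ' => hθ θ hθ' g (Finset.mem_filter.1 hg).2),
          Finset.sum_const, nsmul_eq_mul]; ring),
      Finset.sum_sub_distrib, ← Finset.mul_sum, Finset.sum_const, nsmul_eq_mul] at h
    linear_combination h
  have hpC : (p : ℂ) = 2 * (YF.card : ℂ) + 1 := by exact_mod_cast hYFc.symm
  have hnS : (p : ℂ) * ((R.card : ℂ) - S.card) = Nat.card G := by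
    rw [hC1] at hD
    rw [hpC, ← hns]
    linear_combination (-2 : ℂ) * hD
  -- the values at regular elements
  have hv1R : ∀ g : G, ¬ p ∣ orderOf g → g ≠ 1 → v g = 0 ∨ v g = 1 := by
    have hbound : ∀ g : G, v g ≤ (p : ℤ) - 1 ∧ (v g = (p : ℤ) - 1 → g = 1) := by
      intro g
      refine ⟨?_, fun h => hfaith g (by rw [hd1, hv, h]; push_cast; rfl)⟩
      obtain ⟨d, ρ, hρ, hρc⟩ := χ.2
      have h := Characters.norm_char_le ρ g
      rw [congrFun hρc g, hv] at h
      have hd' : (d : ℂ) = (p : ℂ) - 1 := by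
        rw [← hd1, ← hρc, Representation.char_one, Module.finrank_fin_fun]
      have hd'' : (d : ℝ) = (p : ℝ) - 1 := by simpa using congrArg Complex.re hd'
      rw [Complex.norm_intCast, Module.finrank_fin_fun] at h
      have : (v g : ℝ) ≤ (p : ℝ) - 1 := (le_abs_self _).trans (hd'' ▸ h)
      exact_mod_cast this
    have hzero : ∑ g ∈ R, ((v g * (v g - 1) * ((p : ℤ) - 1 - v g) : ℤ) : ℂ) = 0 := by
      rw [Finset.sum_congr rfl (g := fun g => (p : ℂ) * (χ : G → ℂ) g ^ 2 -
        ((p : ℂ) - 1) * (χ : G → ℂ) g - (χ : G → ℂ) g ^ 3) (fun g _ => by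
          rw [hv]; push_cast; ring),
        Finset.sum_sub_distrib, Finset.sum_sub_distrib, ← Finset.mul_sum, ← Finset.mul_sum,
        ← hM2, ← hM1, ← hM3, hA]
      linear_combination hnS - hB' - (p : ℂ) * hC1
    rw [← Int.cast_sum, Int.cast_eq_zero] at hzero
    intro g hg hg1
    have hterm := (Finset.sum_eq_zero_iff_of_nonneg fun g _ => ?_).1 hzero g
      (Finset.mem_filter.2 ⟨Finset.mem_univ _, hg⟩)
    · rcases mul_eq_zero.1 hterm with h | h
      · rcases mul_eq_zero.1 h with h | h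
        · exact Or.inl h
        · exact Or.inr (by omega)
      · exact absurd ((hbound g).2 (by omega)) hg1
    · refine mul_nonneg ?_ (by have := (hbound g).1; omega)
      rcases le_or_gt (v g) 0 with h | h
      · exact mul_nonneg_of_nonpos_of_nonpos h (by omega)
      · exact mul_nonneg h.le (by omega)
  have h1R : (1 : G) ∈ R :=
    Finset.mem_filter.2 ⟨Finset.mem_univ _, by rw [orderOf_one]; exact hp.not_dvd_one⟩
  -- the order of the group
  set Z0 := (R.erase 1).filter (fun g => v g = 0) with hZ0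
  set Z1 := (R.erase 1).filter (fun g => v g ≠ 0) with hZ1
  have hZ : (Z0.card : ℂ) + Z1.card + 1 = R.card := by
    have h := Finset.card_filter_add_card_filter_not (s := R.erase 1) (fun g => v g = 0)
    rw [← hZ0, ← hZ1] at h
    have h' := Finset.card_erase_add_one h1R
    exact_mod_cast (by omega : Z0.card + Z1.card + 1 = R.card)
  have hval : ∀ k : ℕ, 1 ≤ k →
      ∑ g ∈ R, (χ : G → ℂ) g ^ k = ((p : ℂ) - 1) ^ k + Z1.card := by
    intro k hk
    rw [← Finset.add_sum_erase R _ h1R, hd1,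
      ← Finset.sum_filter_add_sum_filter_not (R.erase 1) (fun g => v g = 0)]
    congr 1
    rw [← hZ0, ← hZ1, Finset.sum_eq_zero (fun g hg => ?_), zero_add,
      Finset.sum_congr rfl (g := fun _ => (1 : ℂ)) (fun g hg => ?_), Finset.sum_const, nsmul_one]
    · obtain ⟨hg', hv0⟩ := Finset.mem_filter.1 hg
      have hv' := (hv1R g (Finset.mem_filter.1 (Finset.mem_of_mem_erase hg')).2
        (Finset.ne_of_mem_erase hg')).resolve_left hv0
      rw [hv, hv', Int.cast_one, one_pow]
    · rw [hv, (Finset.mem_filter.1 hg).2, Int.cast_zero, zero_pow (by omega)]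
  have hS1 : M1 = ((p : ℂ) - 1) + Z1.card := by
    have h := hval 1 le_rfl
    simp only [pow_one] at h
    exact h
  have hS2 : M2 = ((p : ℂ) - 1) ^ 2 + Z1.card := hval 2 (by norm_num)
  have hdiff : (R.card : ℂ) - S.card = ((p : ℂ) - 1) * ((p : ℂ) - 2) := by
    linear_combination hS2 - hS1 - hA + hC1
  have hGc : (Nat.card G : ℂ) = (p : ℂ) * ((p : ℂ) - 1) * ((p : ℂ) - 2) := by
    rw [← hnS, hdiff]; ring
  have hGN : Nat.card G = p * (p - 1) * (p - 2) := by
    have : (Nat.card G : ℂ) = ((p * (p - 1) * (p - 2) : ℕ) : ℂ) := by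
      rw [hGc, Nat.cast_mul, Nat.cast_mul, Nat.cast_sub hp.one_le,
        Nat.cast_sub (by omega : 2 ≤ p), Nat.cast_one, Nat.cast_two]
    exact_mod_cast this
  have hZ0c : Z0.card = p * (p - 2) := by
    have h : (Z0.card : ℂ) = ((p * (p - 2) : ℕ) : ℂ) := by
      rw [Nat.cast_mul, Nat.cast_sub (by omega : 2 ≤ p), Nat.cast_two]
      linear_combination hZ + hdiff + hS1 - hC1
    exact_mod_cast h
  -- involutions
  have hinvol : ∀ u : G, orderOf u = 2 → v u = 0 := by
    intro u hu
    have hu1 : u ≠ 1 := fun h => by rw [h, orderOf_one] at hu; omega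
    have hreg : ¬ p ∣ orderOf u := fun h => by
      rw [hu] at h; have := Nat.le_of_dvd two_pos h; omega
    refine (hv1R u hreg hu1).resolve_right fun h => ?_
    haveI := Fintype.ofFinite (Subgroup.zpowers u)
    obtain ⟨k, hk⟩ := exists_sum_subgroup hchar (Subgroup.zpowers u)
    have hcard : Nat.card (Subgroup.zpowers u) = 2 := by rw [Nat.card_zpowers, hu]
    set u' : Subgroup.zpowers u := ⟨u, Subgroup.mem_zpowers u⟩
    have hu' : (1 : Subgroup.zpowers u) ≠ u' := fun e => hu1 (congrArg Subtype.val e).symm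
    have huniv : (Finset.univ : Finset (Subgroup.zpowers u)) = {1, u'} :=
      (Finset.eq_univ_of_card _ (by
        rw [Finset.card_pair hu', ← Nat.card_eq_fintype_card, hcard])).symm
    rw [huniv, Finset.sum_pair hu', hcard] at hk
    simp only [OneMemClass.coe_one, u', hv, hv1, h] at hk
    have hk' : (p : ℤ) - 1 + 1 = 2 * k := by exact_mod_cast hk
    omega
  -- the centraliser of `t`
  set c := Nat.card (Subgroup.centralizer ({t} : Set G)) with hcdef
  have htreg : ¬ p ∣ orderOf t := fun h => by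
    rw [hto] at h; have := Nat.le_of_dvd two_pos h; omega
  have hcp : c = p - 1 := by
    have hpairs := CfsgLib.ClassPairs.card_pairs t t ({x} : Finset G)
    set Inv := Finset.univ.filter (fun a : G => a * a = 1 ∧ a * x * a⁻¹ = x⁻¹) with hInv
    have hInvc : Inv.card = p := by
      have e : {a : G // a * a = 1 ∧ a * x * a⁻¹ = x⁻¹} ≃ (P : Subgroup G) :=
        { toFun := fun a => ⟨t * a.1, hcent _ (by
            have e1 : a.1 * x = x⁻¹ * a.1 := mul_inv_eq_iff_eq_mul.1 a.2.2
            have e2 : t * x⁻¹ = x * t := by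
              have h6 : t * x⁻¹ * t⁻¹ = x := by rw [← conj_inv, htx, inv_inv]
              exact mul_inv_eq_iff_eq_mul.1 h6
            rw [mul_assoc, e1, ← mul_assoc, e2, mul_assoc])⟩
          invFun := fun w => ⟨t * w.1, by
            obtain ⟨k, hk⟩ := hzp _ w.2
            have e1 : t * w.1 * t⁻¹ = w.1⁻¹ := by rw [← hk, ← conj_pow, htx, inv_pow]
            constructor
            · calc t * w.1 * (t * w.1) = t * w.1 * t⁻¹ * (t * t) * w.1 := by group
                _ = 1 := by rw [e1, htt, mul_one, inv_mul_cancel]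
            · have e2 : w.1 * x * w.1⁻¹ = x := by
                rw [← hk, ← pow_succ, pow_succ', mul_inv_cancel_right]
              calc t * w.1 * x * (t * w.1)⁻¹ = t * (w.1 * x * w.1⁻¹) * t⁻¹ := by group
                _ = x⁻¹ := by rw [e2, htx]⟩
          left_inv := fun a => Subtype.ext (by simp [← mul_assoc, htt])
          right_inv := fun w => Subtype.ext (by simp [← mul_assoc, htt]) }
      rw [hInv, ← Fintype.card_subtype, ← Nat.card_eq_fintype_card, Nat.card_congr e, hPp]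
    have hlhs : (∑ a : G, ∑ b : G,
        if a * t * a⁻¹ * (b * t * b⁻¹) ∈ ({x} : Finset G) then (1 : ℂ) else 0) =
        (p : ℂ) * c * c := by
      have hsqa : ∀ a : G, (a * t * a⁻¹) * (a * t * a⁻¹) = 1 := fun a => by
        calc (a * t * a⁻¹) * (a * t * a⁻¹) = a * (t * t) * a⁻¹ := by group
          _ = 1 := by rw [htt, mul_one, mul_inv_cancel]
      have hstep : ∀ a : G, (∑ b : G,
          if a * t * a⁻¹ * (b * t * b⁻¹) ∈ ({x} : Finset G) then (1 : ℂ) else 0) =
          if a * t * a⁻¹ ∈ Inv then (c : ℂ) else 0 := by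
        intro a
        set a' := a * t * a⁻¹ with ha'
        have haa : a' * a' = 1 := hsqa a
        have hia : a'⁻¹ = a' := inv_eq_of_mul_eq_one_right haa
        rw [Finset.sum_boole]
        split_ifs with hmem
        · obtain ⟨-, -, hinv⟩ := Finset.mem_filter.1 hmem
          have hbb : (a' * x) * (a' * x) = 1 := by
            calc (a' * x) * (a' * x) = a' * x * a'⁻¹ * x := by rw [hia]; group
              _ = 1 := by rw [hinv, inv_mul_cancel]
          have hbx : (a' * x) * x * (a' * x)⁻¹ = x⁻¹ := by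
            rw [← hinv]; group
          rw [← Fintype.card_subtype, ← Nat.card_eq_fintype_card]
          congr 1
          rw [hcdef, ← card_conjugators ((hconjinv t (a' * x) htt htx hbx))]
          refine Nat.card_congr (Equiv.subtypeEquivRight fun b => ?_)
          rw [Finset.mem_singleton, ← eq_inv_mul_iff_mul_eq, hia]
        · rw [Nat.cast_eq_zero, Finset.card_eq_zero, Finset.filter_eq_empty_iff]
          intro b _ hb
          rw [Finset.mem_singleton] at hb
          refine hmem (Finset.mem_filter.2 ⟨Finset.mem_univ _, haa, ?_⟩)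
          have hbb := hsqa b
          have hib : (b * t * b⁻¹)⁻¹ = b * t * b⁻¹ := inv_eq_of_mul_eq_one_right hbb
          rw [← hb, mul_inv_rev a', hia, hib, ← mul_assoc a', haa, one_mul]
      rw [Finset.sum_congr rfl fun a _ => hstep a, ← Finset.sum_filter, Finset.sum_const,
        nsmul_eq_mul]
      congr 1
      have hfib : ∀ i ∈ Inv, ((Finset.univ.filter fun a : G => a * t * a⁻¹ ∈ Inv).filter
          fun a => a * t * a⁻¹ = i).card = c := by
        intro i hi
        obtain ⟨-, hii, hix⟩ := Finset.mem_filter.1 hi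
        rw [Finset.filter_filter, hcdef, ← card_conjugators (hconjinv t i htt htx hix),
          Nat.card_eq_fintype_card, Fintype.card_subtype]
        congr 1
        ext a
        simp only [Finset.mem_filter, Finset.mem_univ, true_and, and_iff_right_iff_imp]
        exact fun h => h ▸ hi
      rw [Finset.card_eq_sum_card_fiberwise (t := Inv) (f := fun a => a * t * a⁻¹)
        (s := Finset.univ.filter fun a : G => a * t * a⁻¹ ∈ Inv) (fun a ha => (Finset.mem_filter.1 ha).2), Finset.sum_congr rfl hfib, Finset.sum_const,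
        hInvc, smul_eq_mul, Nat.cast_mul]
    rw [hlhs, hsplit _ (fun ψ hψ => by
      rw [Finset.sum_singleton, houtB x hxP hx1 ψ hψ, map_zero, zero_mul])] at hpairs
    simp only [Finset.sum_singleton] at hpairs
    have hχt : (χ : G → ℂ) t = 0 := by rw [hv, hinvol t hto, Int.cast_zero]
    have hconjθ : ∑ θ ∈ YF, conj ((θ : G → ℂ) x) = 1 := by
      rw [← map_sum, hθP x hxP hx1, map_one]
    rw [Finset.sum_congr rfl (fun θ hθ' => by rw [hθ θ hθ' t htreg, hθ1 θ hθ']),
      ← Finset.sum_mul, hconjθ, one_mul] at hpairs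
    simp only [hχt, htrivdef, map_one, one_mul, mul_zero, zero_div, add_zero, div_one,
      zero_sub, neg_mul_neg, mul_one, hGc] at hpairs
    field_simp at hpairs
    have h2 : ((c * c : ℕ) : ℂ) = (((p - 1) * (p - 1) : ℕ) : ℂ) := by
      push_cast [Nat.cast_sub hp.one_le]
      have hp0 : (p : ℂ) ≠ 0 := Nat.cast_ne_zero.2 hp.ne_zero
      refine mul_left_cancel₀ hp0 ?_
      linear_combination hpairs
    have h3 : c * c = (p - 1) * (p - 1) := by exact_mod_cast h2
    exact Nat.mul_self_inj.1 h3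
  -- nontrivial elements centralising `t` are conjugate to `t`
  have hCv : ∀ g ∈ Subgroup.centralizer ({t} : Set G), g ≠ 1 → ¬ p ∣ orderOf g ∧ v g = 0 := by
    have hreg : ∀ g ∈ Subgroup.centralizer ({t} : Set G), ¬ p ∣ orderOf g := by
      intro g hg h
      have h' : p ∣ c := h.trans (Subgroup.orderOf_dvd_natCard _ hg)
      rw [hcp] at h'
      have := Nat.le_of_dvd (by omega) h'
      omega
    intro g hg hg1
    refine ⟨hreg g hg, (hv1R g (hreg g hg) hg1).resolve_right fun h => ?_⟩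
    haveI := Fintype.ofFinite (Subgroup.centralizer ({t} : Set G))
    obtain ⟨k, hk⟩ := exists_sum_subgroup hchar (Subgroup.centralizer ({t} : Set G))
    rw [← Finset.add_sum_erase Finset.univ _ (Finset.mem_univ
      (1 : Subgroup.centralizer ({t} : Set G))), OneMemClass.coe_one, hd1, ← hcdef, hcp,
      Finset.sum_congr (s₁ := Finset.univ.erase (1 : Subgroup.centralizer ({t} : Set G))) rfl
        (g := fun a => ((if v (a : G) = 1 then (1 : ℕ) else 0 : ℕ) : ℂ)) (fun a ha => by
          have ha1 : (a : G) ≠ 1 := fun e => Finset.ne_of_mem_erase ha (Subtype.ext e)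
          rcases hv1R a (hreg a a.2) ha1 with h0 | h0 <;> rw [hv, h0] <;> simp),
      ← Nat.cast_sum] at hk
    set s := ∑ a ∈ Finset.univ.erase (1 : Subgroup.centralizer ({t} : Set G)),
      (if v (a : G) = 1 then 1 else 0) with hs
    have hk' : p - 1 + s = (p - 1) * k := by
      have : (((p - 1 + s : ℕ)) : ℂ) = (((p - 1) * k : ℕ) : ℂ) := by
        push_cast [Nat.cast_sub hp.one_le]
        push_cast [Nat.cast_sub hp.one_le] at hk
        exact hk
      exact_mod_cast this
    have hs1 : 1 ≤ s := by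
      refine le_trans (le_of_eq ?_) (Finset.single_le_sum (fun _ _ => Nat.zero_le _)
        (Finset.mem_erase.2 ⟨fun e => hg1 (congrArg Subtype.val e), Finset.mem_univ
          (⟨g, hg⟩ : Subgroup.centralizer ({t} : Set G))⟩))
      simp [h]
    have hs2 : s ≤ p - 2 := by
      refine (Finset.sum_le_card_nsmul _ _ 1 fun a _ => by split_ifs <;> simp).trans ?_
      rw [Finset.card_erase_of_mem (Finset.mem_univ _), Finset.card_univ,
        ← Nat.card_eq_fintype_card, ← hcdef, hcp, smul_eq_mul, mul_one]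
      omega
    rcases k with _ | _ | k
    · omega
    · omega
    · have : (p - 1) * 2 ≤ (p - 1) * (k + 1 + 1) := Nat.mul_le_mul_left _ (by omega)
      omega
  have hcls : ∀ g : G, ¬ p ∣ orderOf g → g ≠ 1 → v g = 0 → IsConj t g := by
    set K := Finset.univ.filter (fun g : G => IsConj t g) with hK
    have hKc : K.card * c = Nat.card G := by
      have hfib : ∀ i ∈ K, ((Finset.univ : Finset G).filter fun a => a * t * a⁻¹ = i).card = c := by
        intro i hi
        rw [hcdef, ← card_conjugators (Finset.mem_filter.1 hi).2, Nat.card_eq_fintype_card,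
          Fintype.card_subtype]
      rw [Nat.card_eq_fintype_card, ← Finset.card_univ,
        Finset.card_eq_sum_card_fiberwise (t := K) (s := Finset.univ) (f := fun a : G => a * t * a⁻¹)
          (fun a _ => Finset.mem_filter.2 ⟨Finset.mem_univ _, isConj_iff.2 ⟨a, rfl⟩⟩),
        Finset.sum_congr rfl hfib, Finset.sum_const, smul_eq_mul]
    have hsub : K ⊆ Z0 := by
      intro g hg
      obtain ⟨a, rfl⟩ := isConj_iff.1 (Finset.mem_filter.1 hg).2
      have ho : orderOf (a * t * a⁻¹) = 2 := by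
        rw [← hto]; exact ((MulAut.conj a).orderOf_eq t)
      have hreg' : ¬ p ∣ orderOf (a * t * a⁻¹) := by
        rw [ho]; intro h; have := Nat.le_of_dvd two_pos h; omega
      refine Finset.mem_filter.2 ⟨Finset.mem_erase.2 ⟨fun e => ?_, Finset.mem_filter.2
        ⟨Finset.mem_univ _, hreg'⟩⟩, hinvol _ ho⟩
      rw [e, orderOf_one] at ho; omega
    have hKeq : K = Z0 := Finset.eq_of_subset_of_card_le hsub (by
      rw [hZ0c]
      refine le_of_eq (Nat.eq_of_mul_eq_mul_right (show 0 < p - 1 by omega) ?_)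
      rw [← hcp, hKc, hGN, hcp]; ring)
    intro g hg hg1 hg0
    exact (Finset.mem_filter.1 (hKeq ▸ Finset.mem_filter.2 ⟨Finset.mem_erase.2
      ⟨hg1, Finset.mem_filter.2 ⟨Finset.mem_univ _, hg⟩⟩, hg0⟩ : g ∈ K)).2
  have hexp : ∀ g ∈ Subgroup.centralizer ({t} : Set G), g ^ 2 = 1 := by
    intro g hg
    by_cases hg1 : g = 1
    · rw [hg1, one_pow]
    obtain ⟨a, rfl⟩ := isConj_iff.1 (hcls g (hCv g hg hg1).1 hg1 (hCv g hg hg1).2)
    rw [conj_pow, pow_two, htt, mul_one, mul_inv_cancel]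
  have hcomm : ∀ a ∈ Subgroup.centralizer ({t} : Set G),
      ∀ b ∈ Subgroup.centralizer ({t} : Set G), a * b = b * a := by
    intro a ha b hb
    have hinv : ∀ y ∈ Subgroup.centralizer ({t} : Set G), y⁻¹ = y := fun y hy =>
      inv_eq_of_mul_eq_one_right (by rw [← pow_two]; exact hexp y hy)
    calc a * b = (a * b)⁻¹ := (hinv _ (mul_mem ha hb)).symm
      _ = b * a := by rw [mul_inv_rev, hinv a ha, hinv b hb]
  have hall : ∀ u : G, orderOf u = 2 → IsMulCommutative (Subgroup.centralizer ({u} : Set G)) ∧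
      ∀ y ∈ Subgroup.centralizer ({u} : Set G), y ^ 2 = 1 := by
    intro u hu
    have hu1 : u ≠ 1 := fun h => by rw [h, orderOf_one] at hu; omega
    obtain ⟨a, rfl⟩ := isConj_iff.1 (hcls u (fun h => by
      rw [hu] at h; have := Nat.le_of_dvd two_pos h; omega) hu1 (hinvol u hu))
    have hmem : ∀ y ∈ Subgroup.centralizer ({a * t * a⁻¹} : Set G),
        a⁻¹ * y * a ∈ Subgroup.centralizer ({t} : Set G) := by
      intro y hy
      rw [Subgroup.mem_centralizer_singleton_iff] at hy ⊢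
      calc a⁻¹ * y * a * t = a⁻¹ * (y * (a * t * a⁻¹)) * a := by group
        _ = t * (a⁻¹ * y * a) := by rw [hy]; group
    refine ⟨⟨⟨fun y z => Subtype.ext ?_⟩⟩, fun y hy => ?_⟩
    · have h := hcomm _ (hmem y y.2) _ (hmem z z.2)
      have h' := congrArg (fun g => a * g * a⁻¹) h
      simpa [mul_assoc] using h'
    · have h := congrArg (fun g => a * g * a⁻¹) (hexp _ (hmem y hy))
      rw [pow_two] at h ⊢
      simpa [mul_assoc] using h
  -- a Sylow 2-subgroup
  haveI := Fact.mk Nat.prime_two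
  set T₀ := Subgroup.centralizer ({t} : Set G) with hT₀
  have hTp : IsPGroup 2 T₀ := fun y => ⟨1, Subtype.ext (by simpa using hexp y y.2)⟩
  obtain ⟨a, ha⟩ := hTp.exists_card_eq
  rw [← hcdef, hcp] at ha
  have hidx : T₀.index = p * (p - 2) := by
    refine Nat.eq_of_mul_eq_mul_right (show 0 < p - 1 by omega) ?_
    rw [show T₀.index * (p - 1) = Nat.card G by rw [← hcp, hcdef, Subgroup.index_mul_card], hGN]
    ring
  set T : Sylow 2 G := hTp.toSylow (by
    rw [hidx, ← even_iff_two_dvd, Nat.not_even_iff_odd, Nat.odd_mul, Nat.odd_iff, Nat.odd_iff]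
    omega) with hTdef
  have hTeq : (T : Subgroup G) = T₀ := rfl
  have hnc : ¬ IsCyclic (T : Subgroup G) := by
    intro hcy
    obtain ⟨g, hg⟩ := IsCyclic.exists_generator (α := (T : Subgroup G))
    have h1 := orderOf_eq_card_of_forall_mem_zpowers hg
    have h2 : orderOf g ∣ 2 := orderOf_dvd_of_pow_eq_one (Subtype.ext (hexp g g.2))
    rw [h1, hTeq, ← hcdef, hcp] at h2
    have := Nat.le_of_dvd two_pos h2
    omega
  have hnn : ¬ (T : Subgroup G).Normal := by
    intro hn
    rw [hTeq] at hn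
    have hxC : x * t * x⁻¹ ∈ T₀ := hn.conj_mem t (Subgroup.mem_centralizer_singleton_iff.2 rfl) x
    have he : x * t * x⁻¹ = t * x⁻¹ * x⁻¹ := by
      have : x * t = t * x⁻¹ := by
        have h6 : t * x⁻¹ * t⁻¹ = x := by rw [← conj_inv, htx, inv_inv]
        exact (mul_inv_eq_iff_eq_mul.1 h6).symm
      rw [this]
    rw [he, mul_assoc] at hxC
    have hxx : x⁻¹ * x⁻¹ ∈ T₀ := by
      simpa using mul_mem (inv_mem (show t ∈ T₀ from Subgroup.mem_centralizer_singleton_iff.2 rfl)) hxC
    have h2 := hexp _ hxx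
    rw [← mul_inv_rev, inv_pow, inv_eq_one, ← pow_two, ← pow_mul,
      ← orderOf_dvd_iff_pow_eq_one, hxo] at h2
    have := Nat.le_of_dvd (by norm_num) h2
    have : p ∣ 2 ^ 2 := h2
    have := (Nat.prime_dvd_prime_iff_eq hp Nat.prime_two).1 (hp.dvd_of_dvd_pow this)
    omega
  obtain ⟨F, fF, fFin, hF', ⟨e⟩⟩ := CfsgLib.SEmbed.exists_equiv_PSL2 (T := T) ⟨hnc, hnn, hall⟩
  rw [hTeq, ← hcdef, hcp, ha] at hF'
  haveI : CharP F 2 := by
    obtain ⟨q, hq'⟩ := CharP.exists F
    obtain ⟨k, hqp, hk⟩ := FiniteField.card F q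
    have h1 : q ∣ 2 ^ a := hF' ▸ hk ▸ dvd_pow_self q k.ne_zero
    rw [← (Nat.prime_dvd_prime_iff_eq hqp Nat.prime_two).1 (hqp.dvd_of_dvd_pow h1)]
    exact hq'
  exact ⟨a, F, fF, fFin, by omega, hF', ⟨e.trans CfsgLib.CAGroups.sl2EquivPSL2.symm⟩⟩

end CfsgLib.PrimeDegreeTwoP
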