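import Cfsg.Agent.PrimeDegreeTwoP.Orbits
import Cfsg.Agent.ClassPairs.Basic
import Cfsg.Agent.Perm.PermChar
import Cfsg.Agent.Perm.PrimeDegree
import Cfsg.Agent.Characters.RepBasic
import Cfsg.Agent.BlocksCyclic.Main
import Cfsg.Agent.S4441
import Cfsg.Agent.S0676
import Cfsg.Agent.S1013

/-!
# Groups of prime degree `p` with a Sylow normaliser of order `2 p`

If the Sylow subgroup is not normal, the group is triply transitive and only the identity fixes three
points.  The principal block shows that all involutions are conjugate and gives, through the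
product of the permutation character with an exceptional character, many orbits on quadruples.
-/

set_option autoImplicit false
set_option linter.unusedSectionVars false
set_option linter.style.haveILetI false

namespace CfsgLib.PrimeDegreeTwoP

open MulAction CfsgLib.Characters
open scoped ComplexConjugate

universe u

theorem cast_descFactorial_succ (n k : ℕ) :
    (n.descFactorial (k + 1) : ℂ) = ((n : ℂ) - k) * n.descFactorial k := by
  rw [Nat.descFactorial_succ, Nat.cast_mul]
  rcases le_or_gt k n with h | h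
  · rw [Nat.cast_sub h]
  · rw [Nat.descFactorial_eq_zero_iff_lt.2 h]; simp

theorem main {α : Type u} [Fintype α] [DecidableEq α] {p : ℕ} [Fact p.Prime] (hp3 : 3 < p)
    (hα : Fintype.card α = p) (G : Subgroup (Equiv.Perm α)) (P : Sylow p G)
    (hN : Nat.card (Subgroup.normalizer ((P : Subgroup G) : Set G)) = 2 * p)
    (hnn : ¬ (P : Subgroup G).Normal) :
    IsMultiplyPretransitive G α 3 ∧
      ∀ g : G, 3 ≤ Nat.card (fixedBy α g) → g = 1 := by
  classical
  haveI := Fintype.ofFinite G
  have hp : p.Prime := Fact.out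
  set N := Subgroup.normalizer ((P : Subgroup G) : Set G) with hNdef
  have hPp : Nat.card (P : Subgroup G) = p := by
    have h1 : p ∣ Nat.card (P : Subgroup G) :=
      P.dvd_card_of_dvd_card ((dvd_mul_left p 2).trans (hN ▸ Subgroup.card_subgroup_dvd_card N))
    obtain ⟨n, hn⟩ := P.2.exists_card_eq
    have h2 : p ^ n ∣ 2 * p := hn ▸ hN ▸ Subgroup.card_dvd_of_le Subgroup.le_normalizer
    rcases Nat.lt_or_ge n 2 with h | h
    · rcases Nat.eq_zero_or_pos n with rfl | h0
      · rw [hn, pow_zero, Nat.dvd_one] at h1; omega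
      · rw [hn, show n = 1 by omega, pow_one]
    · exfalso
      have h3 := (pow_dvd_pow p h).trans h2
      rw [pow_two] at h3
      have := Nat.le_of_dvd two_pos (Nat.dvd_of_mul_dvd_mul_right hp.pos h3)
      omega
  obtain ⟨x, hxP, hx1⟩ := CfsgLib.BlocksCyclic.exists_generator hPp
  have hxo : orderOf x = p :=
    CfsgLib.BlocksCyclic.orderOf_generator hPp hxP hx1
  have hxp : (x : Equiv.Perm α) ^ p = 1 := by
    rw [← SubmonoidClass.coe_pow, ← hxo, pow_orderOf_eq_one]; rfl
  have hx1' : (x : Equiv.Perm α) ≠ 1 := fun h => hx1 (Subtype.ext h)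
  obtain ⟨e, he⟩ := CfsgLib.Perm.PrimeDegree.exists_coord hα hx1' hxp
  have hxk : ∀ (k : ℕ) (j : ZMod p), (x ^ k) • e j = e (j + k) := by
    intro k
    induction k with
    | zero => simp
    | succ k ih =>
      intro j
      rw [pow_succ', mul_smul, ih]
      show (x : Equiv.Perm α) (e (j + k)) = _
      rw [he]; push_cast; ring_nf
  have hx_one : ∀ j : ZMod p, x • e j = e (j + 1) := fun j => he j
  have hfaith : ∀ g : G, (∀ j, g • e j = e j) → g = 1 := fun g h =>
    Subtype.ext (Equiv.ext fun a => by obtain ⟨j, rfl⟩ := e.surjective a; exact h j)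
  -- the centraliser of `x`
  have hcent : ∀ σ : G, σ * x = x * σ → σ ∈ (P : Subgroup G) := by
    intro σ hσ
    set s := e.symm (σ • e 0) with hs
    have hs0 : σ • e 0 = e s := (e.apply_symm_apply _).symm
    have hall : ∀ k : ℕ, σ • e (k : ZMod p) = e (s + k) := by
      intro k
      have h1 : σ * x ^ k = x ^ k * σ := (Commute.pow_right hσ k).eq
      have h2 := hxk k 0
      rw [zero_add] at h2
      rw [← h2, smul_smul, h1, mul_smul, hs0, hxk]
    have : σ = x ^ s.val := by
      rw [← mul_inv_eq_one]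
      refine hfaith _ fun j => ?_
      have h3 := hxk s.val (j - s)
      rw [ZMod.natCast_zmod_val, sub_add_cancel] at h3
      rw [mul_smul, show (x ^ s.val)⁻¹ • e j = e (j - s) by rw [inv_smul_eq_iff, h3]]
      have h4 := hall (j - s).val
      rw [ZMod.natCast_zmod_val] at h4
      rw [h4]; ring_nf
    exact this ▸ (P : Subgroup G).pow_mem hxP _
  have hzp : ∀ w ∈ (P : Subgroup G), ∃ k : ℕ, x ^ k = w := by
    intro w hw
    have hz : Subgroup.zpowers x = (P : Subgroup G) := Subgroup.eq_of_le_of_card_ge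
      (Subgroup.zpowers_le.2 hxP) (by rw [Nat.card_zpowers, hxo, hPp])
    obtain ⟨k, hk⟩ := mem_powers_iff_mem_zpowers.2 (hz.symm ▸ hw : w ∈ Subgroup.zpowers x)
    exact ⟨k, hk⟩
  have hC : Subgroup.centralizer ((P : Subgroup G) : Set G) = P := by
    refine le_antisymm (fun σ hσ => hcent σ ((Subgroup.mem_centralizer_iff.1 hσ x hxP).symm))
      fun w hw => Subgroup.mem_centralizer_iff.2 fun v hv => ?_
    obtain ⟨k, rfl⟩ := hzp w hw
    obtain ⟨l, rfl⟩ := hzp v hv
    rw [← pow_add, ← pow_add, add_comm]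
  have hrel : (P : Subgroup G).relIndex N = 2 := by
    have h := Subgroup.relIndex_mul_relIndex ⊥ (P : Subgroup G) N bot_le Subgroup.le_normalizer
    rw [Subgroup.relIndex_bot_left, Subgroup.relIndex_bot_left, hPp, hN, mul_comm 2] at h
    exact Nat.eq_of_mul_eq_mul_left hp.pos h
  -- transitivity
  haveI : IsPretransitive G α := ⟨fun a b => by
    obtain ⟨i, rfl⟩ := e.surjective a
    obtain ⟨j, rfl⟩ := e.surjective b
    refine ⟨x ^ (j - i).val, ?_⟩
    rw [hxk, ZMod.natCast_zmod_val, add_sub_cancel]⟩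
  have hsyl : 1 < Nat.card (Sylow p G) := by
    by_contra h
    haveI : Subsingleton (Sylow p G) := Finite.card_le_one_iff_subsingleton.1 (not_lt.1 h)
    exact hnn P.normal_of_subsingleton
  haveI : IsSimpleGroup G := Cfsg.Agent.S1013.result hα G P hsyl (by
    show (Subgroup.relIndex (P : Subgroup G) N).Prime
    rw [hrel]; exact Nat.prime_two)
  have hns : ¬ Group.IsSolvable G := fun h => hnn ⟨fun n hn g => by
    rw [IsSimpleGroup.comm_iff_isSolvable.2 h g n, mul_inv_cancel_right]
    exact hn⟩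
  have h3 : IsMultiplyPretransitive G α 3 :=
    Cfsg.Agent.S0676.result hα G hns P (by rw [← hNdef, hN]; exact even_two_mul p)
  refine ⟨h3, ?_⟩
  have hcard3 : 3 ≤ Nat.card α := by rw [Nat.card_eq_fintype_card, hα]; omega
  have h2 : IsMultiplyPretransitive G α 2 := by
    haveI := h3
    exact isMultiplyPretransitive_of_le (n := 3) (by norm_num) hcard3
  have h1 : IsMultiplyPretransitive G α 1 := by
    haveI := h3
    exact isMultiplyPretransitive_of_le (n := 3) (by norm_num) hcard3
  -- inverting involutions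
  have hinv1 : ∀ a : G, a * x * a⁻¹ = x⁻¹ → fx α a = 1 := by
    intro a ha
    set s := e.symm (a • e 0) with hs
    have hs0 : a • e 0 = e s := (e.apply_symm_apply _).symm
    have hstep : ∀ j : ZMod p, a • e j = e (s - j) := by
      have hnat : ∀ k : ℕ, a • e (k : ZMod p) = e (s - k) := by
        intro k
        induction k with
        | zero => simpa using hs0
        | succ k ih =>
          push_cast
          rw [← hx_one, smul_smul, show a * x = x⁻¹ * a by rw [← ha]; group, mul_smul, ih,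
            inv_smul_eq_iff, hx_one]
          ring_nf
      intro j
      simpa using hnat j.val
    rw [fx, Nat.card_eq_one_iff_unique]
    have h2ne : (2 : ZMod p) ≠ 0 := fun h => by
      have : p ∣ 2 := (ZMod.natCast_eq_zero_iff 2 p).1 (by exact_mod_cast h)
      have := Nat.le_of_dvd two_pos this
      omega
    refine ⟨⟨fun u v => ?_⟩, ⟨⟨e (s / 2), ?_⟩⟩⟩
    · obtain ⟨u, hu⟩ := u
      obtain ⟨v, hv⟩ := v
      obtain ⟨i, rfl⟩ := e.surjective u
      obtain ⟨j, rfl⟩ := e.surjective v
      rw [mem_fixedBy, hstep, e.apply_eq_iff_eq] at hu hv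
      refine Subtype.ext (congrArg e (mul_left_cancel₀ h2ne ?_))
      linear_combination hv - hu
    · rw [mem_fixedBy, hstep]
      congr 1
      field_simp
      ring
  have hconjinv : ∀ a b : G, a * a = 1 → a * x * a⁻¹ = x⁻¹ → b * x * b⁻¹ = x⁻¹ → IsConj a b := by
    intro a b haa ha hb
    have hai : a⁻¹ = a := inv_eq_of_mul_eq_one_right haa
    have hw : a * b ∈ (P : Subgroup G) := by
      refine hcent _ ?_
      have e1 : b * x = x⁻¹ * b := by rw [← hb]; group
      have e2 : a * x⁻¹ = x * a := by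
        have h6 : a * x⁻¹ * a⁻¹ = x := by rw [← conj_inv, ha, inv_inv]
        exact mul_inv_eq_iff_eq_mul.1 h6
      rw [mul_assoc, e1, ← mul_assoc, e2, mul_assoc]
    obtain ⟨k, hk⟩ := hzp _ hw
    refine isConj_iff.2 ⟨(x ^ (k * ((p + 1) / 2)))⁻¹, ?_⟩
    have hpow : a * (x ^ (k * ((p + 1) / 2)))⁻¹ * a⁻¹ = x ^ (k * ((p + 1) / 2)) := by
      rw [← conj_inv, ← conj_pow, ha, inv_pow, inv_inv]
    have hodd : p % 2 = 1 := (hp.eq_two_or_odd).resolve_left (by omega)
    have hsq : x ^ (k * ((p + 1) / 2)) * x ^ (k * ((p + 1) / 2)) = x ^ k := by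
      rw [← pow_add, show k * ((p + 1) / 2) + k * ((p + 1) / 2) = k * p + k by
        rw [← mul_add, show (p + 1) / 2 + (p + 1) / 2 = p + 1 by omega]; ring, pow_add, pow_mul',
        ← hxo, pow_orderOf_eq_one, one_pow, one_mul]
    have e3 : (x ^ (k * ((p + 1) / 2)))⁻¹ * a = a * x ^ (k * ((p + 1) / 2)) := by
      have h5 := congrArg (a * ·) hpow
      simp only [← mul_assoc, haa, one_mul, hai] at h5
      exact h5
    rw [inv_inv, e3, mul_assoc, hsq, hk, ← mul_assoc, haa, one_mul]
  -- the involution of the normaliser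
  obtain ⟨t, htt, htx⟩ : ∃ t : G, orderOf t = 2 ∧ t * x * t⁻¹ = x⁻¹ := by
    haveI := Fact.mk Nat.prime_two
    obtain ⟨t, ht⟩ := exists_prime_orderOf_dvd_card' (G := N) 2 (by rw [hN]; exact dvd_mul_right 2 p)
    have hto : orderOf (t : G) = 2 := by rw [Subgroup.orderOf_coe, ht]
    refine ⟨t, hto, ?_⟩
    obtain ⟨k, hk⟩ := hzp _ ((Subgroup.mem_normalizer_iff.1 t.2 x).1 hxP)
    have htt : (t : G) * t = 1 := by rw [← pow_two, ← hto, pow_orderOf_eq_one]
    have hkk : x ^ (k * k) = x ^ 1 := by
      rw [pow_mul, hk, conj_pow, hk, pow_one, ← mul_assoc, ← mul_assoc, htt, one_mul,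
        inv_eq_of_mul_eq_one_right htt, mul_assoc, htt, mul_one]
    rw [pow_eq_pow_iff_modEq, hxo, ← ZMod.natCast_eq_natCast_iff, Nat.cast_mul, Nat.cast_one]
      at hkk
    rcases mul_self_eq_one_iff.1 hkk with h | h
    · exfalso
      have hk1 : x ^ k = x ^ 1 := by
        rw [pow_eq_pow_iff_modEq, hxo, ← ZMod.natCast_eq_natCast_iff, h, Nat.cast_one]
      rw [pow_one, hk] at hk1
      have hmem := hcent (t : G) (mul_inv_eq_iff_eq_mul.1 hk1)
      have hd := Subgroup.orderOf_dvd_natCard (P : Subgroup G) hmem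
      rw [hto, hPp] at hd
      have := (Nat.prime_dvd_prime_iff_eq Nat.prime_two hp).1 hd
      omega
    · rw [← hk, eq_inv_iff_mul_eq_one, ← pow_succ, ← orderOf_dvd_iff_pow_eq_one, hxo,
        ← ZMod.natCast_eq_zero_iff, Nat.cast_add, Nat.cast_one, h, neg_add_cancel]
  have ht1 : fx α t = 1 := hinv1 t htx
  -- elements of order divisible by `p` fix no point
  have hsing : ∀ g : G, p ∣ orderOf g → fx α g = 0 := by
    intro g hg
    set h := g ^ (orderOf g / p)
    have ho : orderOf h = p := by
      rw [orderOf_pow_of_dvd (Nat.div_pos (Nat.le_of_dvd (orderOf_pos g) hg) hp.pos).ne'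
        (Nat.div_dvd_of_dvd hg), Nat.div_div_self hg (orderOf_pos g).ne']
    have hne : (h : Equiv.Perm α) ≠ 1 := fun hh => by
      have h' : h = 1 := Subtype.ext hh
      rw [h', orderOf_one] at ho
      exact hp.ne_one ho.symm
    obtain ⟨c, hc⟩ := CfsgLib.Perm.PrimeDegree.exists_coord hα hne
      (by rw [← SubmonoidClass.coe_pow, ← ho, pow_orderOf_eq_one]; rfl)
    rw [fx, Nat.card_eq_zero]
    refine Or.inl ⟨fun a => ?_⟩
    obtain ⟨a, ha⟩ := a
    obtain ⟨j, rfl⟩ := c.surjective a
    have hpowfix : ∀ k : ℕ, (g ^ k) • c j = c j := by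
      intro k
      induction k with
      | zero => rw [pow_zero, one_smul]
      | succ k ih => rw [pow_succ, mul_smul, ha, ih]
    have hfix : h • c j = c j := hpowfix _
    have := (hc j).symm.trans hfix
    rw [c.apply_eq_iff_eq, add_eq_left] at this
    exact one_ne_zero this
  -- moments
  let π : G → ℂ := fun g => (fx α g : ℂ)
  have hπperm : π = CfsgLib.Perm.PermChar.perm G α := rfl
  have hπc : Cfsg.IsCharacter G π := hπperm ▸ CfsgLib.Perm.PermChar.isCharacter_perm
  have hπr : ∀ g, conj (π g) = π g := fun g => Complex.conj_natCast _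
  have hπ1 : π 1 = p := by
    rw [hπperm, CfsgLib.Perm.PermChar.perm_one, Nat.card_eq_fintype_card, hα]
  haveI : Nonempty α := ⟨e 0⟩
  have hne_emb : ∀ k, k ≤ p → Nonempty (Fin k ↪ α) := fun k hk =>
    Function.Embedding.nonempty_of_card_le (by rw [Fintype.card_fin, hα]; exact hk)
  have hm1 : ∑ g : G, π g = (Nat.card G : ℂ) := by
    rw [← sum_descFactorial_of_transitive (α := α) 1 h1 (hne_emb 1 (by omega)), Nat.cast_sum]
    simp [π]
  have hm2 : ∑ g : G, π g * (π g - 1) = (Nat.card G : ℂ) := by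
    rw [← sum_descFactorial_of_transitive (α := α) 2 h2 (hne_emb 2 (by omega)), Nat.cast_sum]
    refine Finset.sum_congr rfl fun g _ => ?_
    rw [cast_descFactorial_succ, Nat.descFactorial_one, Nat.cast_one]
    ring
  have hm3 : ∑ g : G, π g * (π g - 1) * (π g - 2) = (Nat.card G : ℂ) := by
    rw [← sum_descFactorial_of_transitive (α := α) 3 h3 (hne_emb 3 (by omega)), Nat.cast_sum]
    refine Finset.sum_congr rfl fun g _ => ?_
    rw [cast_descFactorial_succ, cast_descFactorial_succ, Nat.descFactorial_one, Nat.cast_one,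
      Nat.cast_two]
    ring
  set r := orb4 G α with hr
  have hm4 : ∑ g : G, π g * (π g - 1) * (π g - 2) * (π g - 3) = (r : ℂ) * (Nat.card G : ℂ) := by
    rw [← Nat.cast_mul, hr, ← sum_four, Nat.cast_sum]
    refine Finset.sum_congr rfl fun g _ => ?_
    rw [cast_descFactorial_succ, cast_descFactorial_succ, cast_descFactorial_succ,
      Nat.descFactorial_one, Nat.cast_one, Nat.cast_two, show ((3 : ℕ) : ℂ) = 3 by norm_num]
    ring
  have hG0 : (Nat.card G : ℂ) ≠ 0 := natCard_ne_zero
  -- the character of degree `p - 1`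
  let ψf : G → ℂ := fun g => π g - 1
  have hone : Cfsg.classInner π (fun _ : G => (1 : ℂ)) = 1 := by
    rw [hπperm]; exact CfsgLib.Perm.PermChar.inner_one_of_transitive
  have htriv := isIrr_one (G := G)
  set triv : Cfsg.IrrCharacter G := ⟨fun _ => 1, htriv⟩ with htrivdef
  have hψcl : Cfsg.IsClassFunction G ψf := fun g h => by
    show π (h * g * h⁻¹) - 1 = π g - 1
    rw [isClassFunction_of_isCharacter hπc g h]
  have hψc : Cfsg.IsCharacter G ψf := by
    refine isCharacter_of_classInner hψcl fun χ => ?_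
    have hsub : Cfsg.classInner ψf (χ : G → ℂ) =
        Cfsg.classInner π (χ : G → ℂ) - Cfsg.classInner (fun _ : G => (1 : ℂ)) (χ : G → ℂ) :=
      classInner_sub_left _ _ _
    rw [hsub]
    by_cases hχ : triv = χ
    · refine ⟨0, ?_⟩
      rw [← hχ, htrivdef]
      simp only [hone, classInner_isIrr_self htriv, sub_self, Nat.cast_zero]
    · obtain ⟨m, hm⟩ := classInner_character_irr hπc χ.2
      refine ⟨m, ?_⟩
      have h0 := classInner_irr triv χ
      rw [if_neg hχ, htrivdef] at h0
      rw [hm, h0, sub_zero]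
  have hψnorm : Cfsg.classInner ψf ψf = 1 := by
    rw [Cfsg.classInner]
    have : ∀ g, ψf g * conj (ψf g) = π g * (π g - 1) - π g + 1 := by
      intro g; simp only [ψf, map_sub, map_one, hπr]; ring
    rw [Finset.sum_congr rfl fun g _ => this g, Finset.sum_add_distrib, Finset.sum_sub_distrib,
      hm2, hm1, sub_self, zero_add, Finset.sum_const, Finset.card_univ, nsmul_one,
      ← Nat.card_eq_fintype_card, inv_mul_cancel₀ hG0]
  set ψ : Cfsg.IrrCharacter G := ⟨ψf, isIrr_of_classInner_self hψc hψnorm⟩ with hψdef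
  have hψv : ∀ g, (ψ : G → ℂ) g = π g - 1 := fun g => rfl
  -- the principal block
  obtain ⟨M, hM⟩ := CfsgLib.Blocks.exists_isPModular p hp
  haveI : M.IsPrime := CfsgLib.Blocks.IsPModular.isPrime hM
  set B := Cfsg.principalBlock M G with hBdef
  obtain ⟨X, Y, hB, hdisj, hXc, hYc, εX, ε, hX, hε, hYd, hYreg, hid⟩ :=
    Cfsg.Agent.S4441.result p M hM (by omega) P hPp 2 (by rw [hC, hrel])
  have hπx : π x = 0 := by
    simp [π, hsing x (by rw [hxo])]
  have hcx : Nat.card (Subgroup.centralizer ({x} : Set G)) = p := by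
    rw [CfsgLib.BlocksCyclic.centralizer_generator hPp hxP hx1, hC, hPp]
  have houtB : ∀ χ : Cfsg.IrrCharacter G, χ ∉ B → (χ : G → ℂ) x = 0 := by
    have hall := sum_irr_mul_conj_of_isConj (IsConj.refl x)
    have hblk := CfsgLib.BlocksCyclic.sum_principal_mul_conj hPp hxP hx1 hM hxP
    rw [hcx, ← Finset.sum_filter_add_sum_filter_not Finset.univ (fun χ => χ ∈ B)] at hall
    rw [if_pos (IsConj.refl x), ← Finset.sum_filter, ← hBdef] at hblk
    rw [hblk, add_eq_left] at hall
    intro χ hχ
    have hre := congrArg Complex.re hall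
    simp only [Complex.mul_conj, Complex.re_sum, Complex.ofReal_re, Complex.zero_re] at hre
    exact Complex.normSq_eq_zero.1 ((Finset.sum_eq_zero_iff_of_nonneg
      fun χ _ => Complex.normSq_nonneg _).1 hre χ (Finset.mem_filter.2 ⟨Finset.mem_univ _, hχ⟩))
  have hψB : ψ ∈ B := by
    by_contra h
    have := houtB ψ h
    rw [hψv, hπx] at this
    norm_num at this
  have htrivB : triv ∈ B := CfsgLib.PrincipalBlock.trivChar_mem
  have hdegψ : Cfsg.charDegree (ψ : G → ℂ) = p - 1 := by
    simp only [Cfsg.charDegree, hψv, hπ1]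
    rw [show ((p : ℂ) - 1) = ((p - 1 : ℕ) : ℂ) by rw [Nat.cast_sub hp.one_le, Nat.cast_one]]
    simp
  have hdegtriv : Cfsg.charDegree (triv : G → ℂ) = 1 := by simp [Cfsg.charDegree, htrivdef]
  have hYne : ∀ χ : Cfsg.IrrCharacter G, (Cfsg.charDegree (χ : G → ℂ) = 1 ∨
      Cfsg.charDegree (χ : G → ℂ) = p - 1) → χ ∉ Y := by
    intro χ hd hY
    have h := hYd χ hY
    have hcases : ((p : ℕ) : ℤ) ∣ 1 ∨ ((p : ℕ) : ℤ) ∣ 3 := by
      have hp1 : (((p - 1 : ℕ) : ℤ)) = (p : ℤ) - 1 := by omega
      rw [Int.modEq_iff_dvd] at h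
      rcases hd with hd | hd <;> rcases hε with rfl | rfl <;> rw [hd] at h <;>
        obtain ⟨k, hk⟩ := h
      · left; exact ⟨k, by push_cast at hk; linear_combination hk⟩
      · right; exact ⟨-k, by push_cast at hk; linear_combination -hk⟩
      · right; exact ⟨k + 1, by rw [hp1] at hk; push_cast at hk; linear_combination hk⟩
      · left; exact ⟨-k - 1, by rw [hp1] at hk; push_cast at hk; linear_combination -hk⟩
    rcases hcases with h | h <;>
    · have := Int.le_of_dvd (by norm_num) h
      omega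
  have hne : triv ≠ ψ := fun h => by
    have := hdegψ
    rw [← h, hdegtriv] at this
    omega
  have htX : triv ∈ X := ((Set.mem_union _ _ _).1 (hB ▸ htrivB)).resolve_right
    (hYne _ (Or.inl hdegtriv))
  have hψX : ψ ∈ X := ((Set.mem_union _ _ _).1 (hB ▸ hψB)).resolve_right
    (hYne _ (Or.inr hdegψ))
  have hXeq : X = {triv, ψ} := (Set.eq_of_subset_of_ncard_le
    (Set.insert_subset htX (Set.singleton_subset_iff.2 hψX))
    (by rw [Set.ncard_pair hne, ← Nat.card_coe_set_eq, hXc]) (Set.toFinite _)).symm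
  have hε1 : εX triv = 1 := by
    obtain ⟨h, -, hv⟩ := hX triv htX
    have h' : (1 : ℂ) = (εX triv : ℂ) :=
      hv x hxP hx1 1 (one_mem _) (by rw [orderOf_one]; exact hp.not_dvd_one)
    exact_mod_cast h'.symm
  have hεψ : εX ψ = -1 := by
    obtain ⟨h, -, hv⟩ := hX ψ hψX
    have h' := hv x hxP hx1 1 (one_mem _) (by rw [orderOf_one]; exact hp.not_dvd_one)
    rw [mul_one, hψv, hπx, zero_sub] at h'
    exact_mod_cast h'.symm
  -- values of the exceptional characters
  have hθ : ∀ θ ∈ Y, ∀ g : G, ¬ p ∣ orderOf g → (θ : G → ℂ) g = π g - 2 := by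
    intro θ hθ
    have hgen : ∀ g : G, ¬ p ∣ orderOf g → (ε : ℂ) * (θ : G → ℂ) g = 2 - π g := by
      intro g hg
      rw [hid θ hθ g hg, hXeq, finsum_mem_pair hne, hε1, hεψ, hψv]
      simp [htrivdef]; ring
    have hone' := hgen 1 (by rw [orderOf_one]; exact hp.not_dvd_one)
    obtain ⟨n, hn, hn', -, -⟩ := CfsgLib.ClassPairs.exists_irr_degree θ
    rw [hn', hπ1] at hone'
    have hε' : ε = -1 := by
      refine hε.resolve_left fun h => ?_
      rw [h, Int.cast_one, one_mul] at hone'
      have : (n : ℝ) = 2 - p := by exact_mod_cast congrArg Complex.re hone'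
      have h5 : (3 : ℝ) < p := by exact_mod_cast hp3
      have : (0 : ℝ) ≤ n := Nat.cast_nonneg n
      linarith
    intro g hg
    have := hgen g hg
    rw [hε', Int.cast_neg, Int.cast_one] at this
    linear_combination -this
  set YF := Finset.univ.filter (fun χ : Cfsg.IrrCharacter G => χ ∈ Y) with hYF
  have hYFc : 2 * YF.card = p - 1 := by
    rw [hYF, ← Fintype.card_subtype, ← Nat.card_eq_fintype_card]
    have : Nat.card {χ : Cfsg.IrrCharacter G // χ ∈ Y} = (p - 1) / 2 := hYc
    have hodd : p % 2 = 1 := (hp.eq_two_or_odd).resolve_left (by omega)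
    rw [this]; omega
  have hsplit : ∀ F : Cfsg.IrrCharacter G → ℂ, (∀ χ, χ ∉ B → F χ = 0) →
      ∑ χ, F χ = F triv + F ψ + ∑ χ ∈ YF, F χ := by
    intro F hF
    have hd : Disjoint ({triv, ψ} : Finset (Cfsg.IrrCharacter G)) YF := by
      rw [Finset.disjoint_left]
      intro χ hχ hχY
      simp only [Finset.mem_insert, Finset.mem_singleton] at hχ
      have hY' := (Finset.mem_filter.1 hχY).2
      rcases hχ with rfl | rfl
      · exact hYne _ (Or.inl hdegtriv) hY'
      · exact hYne _ (Or.inr hdegψ) hY'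
    rw [← Finset.sum_subset (Finset.subset_univ (({triv, ψ} : Finset _) ∪ YF)),
      Finset.sum_union hd, Finset.sum_pair hne]
    intro χ _ hχ
    refine hF χ fun hχB => hχ ?_
    rw [hBdef, hB] at hχB
    rcases (Set.mem_union _ _ _).1 hχB with h | h
    · rw [hXeq] at h
      exact Finset.mem_union_left _ (by simpa using h)
    · exact Finset.mem_union_right _ (Finset.mem_filter.2 ⟨Finset.mem_univ _, h⟩)
  have hθ1 : ∀ θ ∈ YF, (θ : G → ℂ) 1 = (p : ℂ) - 2 := fun θ h => by
    rw [hθ θ (Finset.mem_filter.1 h).2 1 (by rw [orderOf_one]; exact hp.not_dvd_one), hπ1]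
  have hp2 : ((p : ℂ) - 2) ≠ 0 := sub_ne_zero.2 (by exact_mod_cast (by omega : p ≠ 2))
  have hθx : ∑ θ ∈ YF, (θ : G → ℂ) x = 1 := by
    have h := sum_degree_mul x
    rw [if_neg hx1, hsplit _ (fun χ hχ => by rw [houtB χ hχ, mul_zero])] at h
    rw [Finset.sum_congr rfl (fun θ hθ' => by rw [hθ1 θ hθ']), ← Finset.mul_sum] at h
    simp only [hψv, hπx, hπ1, htrivdef] at h
    refine mul_left_cancel₀ hp2 ?_
    linear_combination h
  -- all involutions fix one point
  have hinvol : ∀ u : G, orderOf u = 2 → fx α u = 1 := by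
    intro u hu
    by_contra hne1
    have hnconj : ¬ IsConj t u := fun h => by
      obtain ⟨c, rfl⟩ := isConj_iff.1 h
      refine hne1 ?_
      have := isClassFunction_of_isCharacter hπc t c
      simp only [π, ht1] at this
      exact_mod_cast this
    have hpairs := CfsgLib.ClassPairs.card_pairs t u ({x} : Finset G)
    have hsq : ∀ v : G, orderOf v = 2 → ∀ c : G, (c * v * c⁻¹) * (c * v * c⁻¹) = 1 := by
      intro v hv c
      have hvv : v * v = 1 := by rw [← pow_two, ← hv, pow_orderOf_eq_one]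
      calc (c * v * c⁻¹) * (c * v * c⁻¹) = c * (v * v) * c⁻¹ := by group
        _ = 1 := by rw [hvv, mul_one, mul_inv_cancel]
    rw [Finset.sum_eq_zero (fun a _ => Finset.sum_eq_zero fun b _ => if_neg ?_)] at hpairs
    swap
    · rw [Finset.mem_singleton]
      intro hab
      have haux : ∀ a' b' : G, a' * a' = 1 → b' * b' = 1 → a' * b' = x →
          a' * x * a'⁻¹ = x⁻¹ ∧ b' * x * b'⁻¹ = x⁻¹ := by
        intro a' b' haa hbb h
        have hia : a'⁻¹ = a' := inv_eq_of_mul_eq_one_right haa
        have hib : b'⁻¹ = b' := inv_eq_of_mul_eq_one_right hbb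
        constructor
        · rw [← h, mul_inv_rev, hia, hib, ← mul_assoc a', haa, one_mul]
        · rw [← h, mul_inv_rev, hia, hib, mul_assoc, mul_assoc a', hbb, mul_one]
      obtain ⟨h1a, h1b⟩ := haux _ _ (hsq t htt a) (hsq u hu b) hab
      exact hnconj ((isConj_iff.2 ⟨a, rfl⟩).trans
        ((hconjinv _ _ (hsq t htt a) h1a h1b).trans (isConj_iff.2 ⟨b, rfl⟩).symm))
    rw [zero_eq_mul, or_iff_right hG0, hsplit _ (fun χ hχ => by
      rw [Finset.sum_singleton, houtB χ hχ, map_zero, zero_mul])] at hpairs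
    simp only [Finset.sum_singleton] at hpairs
    have htreg : ¬ p ∣ orderOf t := fun h => by rw [hsing t h] at ht1; omega
    have hureg : ¬ p ∣ orderOf u := fun h => by
      rw [hu] at h; have := Nat.le_of_dvd two_pos h; omega
    have hπt : π t = 1 := by simp [π, ht1]
    have hconjθ : ∑ θ ∈ YF, conj ((θ : G → ℂ) x) = 1 := by rw [← map_sum, hθx, map_one]
    rw [Finset.sum_congr rfl (fun θ hθ' => by
      rw [hθ θ (Finset.mem_filter.1 hθ').2 t htreg, hθ θ (Finset.mem_filter.1 hθ').2 u hureg,
        hθ1 θ hθ']), ← Finset.sum_mul, hconjθ, one_mul, hπt] at hpairs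
    simp only [hψv, hπt, sub_self, zero_mul, zero_div, mul_zero, add_zero, htrivdef, map_one,
      one_mul, div_one] at hpairs
    field_simp at hpairs
    have hπu : π u = p := by linear_combination -hpairs
    have hfxu : fx α u = p := Nat.cast_injective (R := ℂ) hπu
    have hu1 : u = 1 := hfaith u fun j => by
      have hall : fixedBy α u = Set.univ := Set.eq_of_subset_of_ncard_le (Set.subset_univ _)
        (by rw [Set.ncard_univ, Nat.card_eq_fintype_card, hα, ← Nat.card_coe_set_eq]
            exact hfxu.ge) (Set.toFinite _)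
      exact hall.symm ▸ Set.mem_univ (e j) |> mem_fixedBy.1
    rw [hu1, orderOf_one] at hu
    omega
  -- the product with an exceptional character
  obtain ⟨θ₀, hθ₀⟩ : YF.Nonempty := Finset.card_pos.1 (by omega)
  set Φ : G → ℂ := fun g => π g * (π g - 2) with hΦ
  have hΦeq : ∀ θ ∈ YF, ∀ g, π g * (θ : G → ℂ) g = π g * (π g - 2) := by
    intro θ hθ' g
    by_cases hg : p ∣ orderOf g
    · simp [π, hsing g hg]
    · rw [hθ θ (Finset.mem_filter.1 hθ').2 g hg]
  have hΦc : Cfsg.IsCharacter G Φ := by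
    have := isCharacter_mul hπc (isCharacter_of_isIrr θ₀.2)
    convert this using 1
    funext g
    exact (hΦeq θ₀ hθ₀ g).symm
  choose m hm using fun χ : Cfsg.IrrCharacter G => classInner_character_irr hΦc χ.2
  have hmY : ∀ θ ∈ YF, m θ = 1 := by
    intro θ hθ'
    have h := hm θ
    rw [Cfsg.classInner, Finset.sum_congr rfl (g := fun g => π g * (π g - 1) * (π g - 2) -
      π g * (π g - 1) + π g) ?_] at h
    · rw [Finset.sum_add_distrib, Finset.sum_sub_distrib, hm3, hm2, hm1, sub_self, zero_add,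
        inv_mul_cancel₀ hG0] at h
      exact_mod_cast h.symm
    · intro g _
      have h2 : π g * conj ((θ : G → ℂ) g) = π g * (π g - 2) := by
        rw [← hπr g, ← map_mul, hΦeq θ hθ' g, map_mul, map_sub, hπr, Complex.conj_ofNat]
      simp only [hΦ]
      linear_combination (π g - 2) * h2
  have hmψ : m ψ = 1 := by
    have h := hm ψ
    rw [Cfsg.classInner, Finset.sum_congr rfl (g := fun g => π g * (π g - 1) * (π g - 2)) ?_,
      hm3, inv_mul_cancel₀ hG0] at h
    · exact_mod_cast h.symm
    · intro g _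
      simp only [hΦ, hψv, map_sub, map_one, hπr]
      ring
  have hnorm : Cfsg.classInner Φ Φ = (r : ℂ) + 2 := by
    rw [Cfsg.classInner, Finset.sum_congr rfl (g := fun g => π g * (π g - 1) * (π g - 2) * (π g - 3)
      + 2 * (π g * (π g - 1) * (π g - 2)) - π g * (π g - 1) + π g) ?_,
      Finset.sum_add_distrib, Finset.sum_sub_distrib, Finset.sum_add_distrib, ← Finset.mul_sum,
      hm4, hm3, hm2, hm1]
    · field_simp
      ring
    · intro g _
      simp only [hΦ, map_mul, map_sub, hπr, Complex.conj_ofNat]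
      ring
  have hΦcl := isClassFunction_of_isCharacter hΦc
  have hr2 : r + 2 = ∑ χ, m χ * m χ := by
    have h := classInner_eq_sum hΦcl Φ
    rw [hnorm] at h
    have : ((r + 2 : ℕ) : ℂ) = ((∑ χ, m χ * m χ : ℕ) : ℂ) := by
      push_cast
      rw [h]
      exact Finset.sum_congr rfl fun χ _ => by simp [hm]
    exact_mod_cast this
  have hψYF : ψ ∉ YF := fun h => hYne _ (Or.inr hdegψ) (Finset.mem_filter.1 h).2
  have hrt : YF.card ≤ r := by
    by_contra hlt
    set S := insert ψ YF with hS
    have hSsum : ∑ χ ∈ S, m χ * m χ = YF.card + 1 := by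
      rw [hS, Finset.sum_insert hψYF, hmψ, Finset.sum_congr rfl (fun θ h => by rw [hmY θ h]),
        Finset.sum_const, smul_eq_mul]
      ring
    have hle := Finset.sum_le_sum_of_subset (f := fun χ => m χ * m χ) (Finset.subset_univ S)
    have hzero : ∀ χ, χ ∉ S → m χ = 0 := by
      intro χ hχ
      by_contra h0
      have := Finset.sum_le_sum_of_subset (f := fun χ => m χ * m χ)
        (Finset.subset_univ (insert χ S))
      rw [Finset.sum_insert hχ, hSsum, ← hr2] at this
      have : 1 ≤ m χ * m χ := Nat.one_le_iff_ne_zero.2 (mul_ne_zero h0 h0)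
      omega
    have hdeg := congrFun (character_expansion hΦc) 1
    simp only [hm, Finset.sum_apply, Pi.smul_apply, smul_eq_mul] at hdeg
    rw [← Finset.sum_subset (Finset.subset_univ S) (fun χ _ hχ => by simp [hzero χ hχ]), hS,
      Finset.sum_insert hψYF, Finset.sum_congr rfl (fun θ h => by rw [hmY θ h, hθ1 θ h]),
      Finset.sum_const, hmψ] at hdeg
    simp only [hΦ, hπ1, hψv, Nat.cast_one, one_mul, nsmul_eq_mul] at hdeg
    have hp' : (p : ℝ) * ((p : ℝ) - 2) = ((p : ℝ) - 1) + (YF.card : ℝ) * ((p : ℝ) - 2) := by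
      have := congrArg Complex.re hdeg
      simpa using this
    have hY2 : (2 : ℝ) * (YF.card : ℝ) = (p : ℝ) - 1 := by
      have : ((2 * YF.card : ℕ) : ℝ) = ((p - 1 : ℕ) : ℝ) := by rw [hYFc]
      rw [Nat.cast_sub hp.one_le] at this
      simpa using this
    have h5 : (5 : ℝ) ≤ p := by
      have : 5 ≤ p := by
        by_contra h
        have h4 : p = 4 := by omega
        exact (by norm_num : ¬ (4 : ℕ).Prime) (h4 ▸ hp)
      exact_mod_cast this
    nlinarith
  -- the stabiliser of three points is trivial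
  intro g hg
  let x₃ : Fin 3 ↪ α := (hne_emb 3 (by omega)).some
  set T₀ : Finset α := Finset.univ.map x₃ with hT₀
  have hT₀c : T₀.card = 3 := by rw [hT₀, Finset.card_map, Finset.card_univ, Fintype.card_fin]
  set H := fixingSubgroup G (T₀ : Set α) with hH
  by_cases hH1 : Nat.card H = 1
  · haveI := Fintype.ofFinite (fixedBy α g)
    obtain ⟨T, hT, hTc⟩ := Finset.exists_subset_card_eq
      (show 3 ≤ (fixedBy α g).toFinset.card by
        rwa [Set.toFinset_card, ← Nat.card_eq_fintype_card])
    have hgT : g ∈ fixingSubgroup G (T : Set α) :=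
      (mem_fixingSubgroup_iff G).2 fun z hz => (Set.mem_toFinset (s := fixedBy α g)).1 (hT hz)
    have h1' := card_fixing_eq h3 T T₀ hTc hT₀c
    rw [← hH, hH1] at h1'
    haveI := (Nat.card_eq_one_iff_unique.1 h1').1
    exact congrArg Subtype.val (Subsingleton.elim (⟨g, hgT⟩ : fixingSubgroup G (T : Set α)) 1)
  exfalso
  have hHodd : Odd (Nat.card H) := by
    by_contra h
    haveI := Fact.mk Nat.prime_two
    obtain ⟨a, ha⟩ := exists_prime_orderOf_dvd_card' (G := H) 2 (Nat.not_odd_iff_even.1 h).two_dvd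
    have hao : orderOf (a : G) = 2 := by rw [Subgroup.orderOf_coe, ha]
    have hfix1 := hinvol a hao
    have hle := Nat.card_le_card_of_injective
      (fun z : {z // z ∈ T₀} => (⟨(z : α), (mem_fixingSubgroup_iff G).1 a.2 z.1 z.2⟩ :
        fixedBy α (a : G)))
      (fun z z' hz => Subtype.ext (congrArg (fun w : fixedBy α (a : G) => (w : α)) hz))
    rw [Nat.card_eq_fintype_card (α := {z // z ∈ T₀}), Fintype.card_coe, hT₀c] at hle
    change 3 ≤ fx α (a : G) at hle
    omega
  set f := Nat.card (fixedPoints H α) with hf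
  have hfp : f < p := by
    by_contra h
    refine hH1 ?_
    have hall : fixedPoints H α = Set.univ := Set.eq_of_subset_of_ncard_le (Set.subset_univ _)
      (by rw [Set.ncard_univ, Nat.card_eq_fintype_card, hα, ← Nat.card_coe_set_eq]; omega)
      (Set.toFinite _)
    rw [Nat.card_eq_one_iff_unique]
    refine ⟨⟨fun u v => ?_⟩, ⟨1⟩⟩
    have huniv : ∀ w : H, (w : G) = 1 := fun w => hfaith _ fun j =>
      (hall.symm ▸ Set.mem_univ (e j) : e j ∈ fixedPoints H α) w
    exact Subtype.ext ((huniv u).trans (huniv v).symm)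
  have horb := orbits_four_le h3 x₃
  have hrange : Set.range x₃ = (T₀ : Set α) := by simp [hT₀]
  rw [hrange, ← hr] at horb
  change r + 3 ≤ Nat.card (orbitRel.Quotient H α) at horb
  have hbound := three_mul_orbits_le (α := α) hHodd
  rw [Nat.card_eq_fintype_card (α := α), hα, ← hf] at hbound
  obtain ⟨a, b, c, hab, -, -, hT₀eq⟩ := Finset.card_eq_three.1 hT₀c
  have d1 := fix_dvd h3 T₀ hT₀c {a, b} 1 (by rw [Finset.card_pair hab])
  have d2 := fix_dvd h3 T₀ hT₀c {a} 2 (by rw [Finset.card_singleton])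
  rw [← hH, ← hf, hα, Finset.card_pair hab, Nat.descFactorial_one, Nat.descFactorial_one] at d1
  rw [← hH, ← hf, hα, Finset.card_singleton] at d2
  have e2 : ∀ n : ℕ, (n - 1).descFactorial 2 = (n - 1) * (n - 2) := fun n => by
    rw [Nat.descFactorial_succ, Nat.descFactorial_one, mul_comm]
    congr 1
  rw [e2, e2] at d2
  exact arith hp (by
    by_contra h
    have h4 : p = 4 := by omega
    exact (by norm_num : ¬ (4 : ℕ).Prime) (h4 ▸ hp)) hfp (by omega) d1 d2

end CfsgLib.PrimeDegreeTwoP
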