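import Mathlib.GroupTheory.GroupAction.MultipleTransitivity
import Mathlib.GroupTheory.GroupAction.Quotient
import Mathlib.GroupTheory.GroupAction.FixingSubgroup
import Mathlib.GroupTheory.Perm.Cycle.Type
import Mathlib.Data.Fintype.CardEmbedding
import Mathlib.Data.Nat.Prime.Basic

/-!
# Orbit counts for triply transitive groups with stabilisers of odd order

`sum_descFactorial`: the falling moments of the number of fixed points count orbits on tuples.
For a triply transitive group in which the stabilisers of three points have odd order, the number of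
orbits on quadruples is bounded through the fixed points of such a stabiliser (`orbits_four_le`),
whose number `f` satisfies divisibilities (`fix_dvd`).  `arith` is the resulting impossibility.
-/

set_option autoImplicit false
set_option linter.unusedSectionVars false
set_option linter.style.haveILetI false

namespace CfsgLib.PrimeDegreeTwoP

open MulAction

universe u v

variable {G : Type u} [Group G] {α : Type v} [MulAction G α]

/-- The number of fixed points. -/
noncomputable def fx (α : Type v) [MulAction G α] (g : G) : ℕ := Nat.card (fixedBy α g)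

/-- The falling moments count the orbits on tuples of distinct points. -/
theorem sum_descFactorial [Fintype G] [Finite α] (k : ℕ) :
    ∑ g : G, (fx α g).descFactorial k =
      Nat.card (orbitRel.Quotient G (Fin k ↪ α)) * Nat.card G := by
  classical
  haveI := Fintype.ofFinite α
  have hb := sum_card_fixedBy_eq_card_orbits_mul_card_group G (Fin k ↪ α)
  rw [← Nat.card_eq_fintype_card (α := G), ← Nat.card_eq_fintype_card] at hb
  rw [← hb]
  refine Finset.sum_congr rfl fun g _ => ?_
  let e : fixedBy (Fin k ↪ α) g ≃ (Fin k ↪ fixedBy α g) :=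
    { toFun := fun y => ⟨fun i => ⟨y.1 i, congrArg (fun z : Fin k ↪ α => z i) y.2⟩,
        fun i j h => y.1.injective (congrArg Subtype.val h)⟩
      invFun := fun z => ⟨z.trans (Function.Embedding.subtype _),
        Function.Embedding.ext fun i => (z i).2⟩
      left_inv := fun y => Subtype.ext (Function.Embedding.ext fun i => rfl)
      right_inv := fun z => Function.Embedding.ext fun i => Subtype.ext rfl }
  rw [Fintype.card_congr e, Fintype.card_embedding_eq, Fintype.card_fin, fx,
    Nat.card_eq_fintype_card]

/-- One orbit when the group is transitive on `k`-tuples. -/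
theorem sum_descFactorial_of_transitive [Fintype G] [Finite α] (k : ℕ)
    (h : IsMultiplyPretransitive G α k) (hne : Nonempty (Fin k ↪ α)) :
    ∑ g : G, (fx α g).descFactorial k = Nat.card G := by
  rw [sum_descFactorial]
  haveI : IsPretransitive G (Fin k ↪ α) := h
  haveI := (pretransitive_iff_subsingleton_quotient G (Fin k ↪ α)).1 inferInstance
  haveI : Nonempty (orbitRel.Quotient G (Fin k ↪ α)) := hne.map (Quotient.mk _)
  rw [Nat.card_unique, one_mul]

variable (G α) in
/-- The number of orbits on quadruples of distinct points. -/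
noncomputable def orb4 : ℕ := Nat.card (orbitRel.Quotient G (Fin 4 ↪ α))

theorem sum_four [Fintype G] [Finite α] :
    ∑ g : G, (fx α g).descFactorial 4 = orb4 G α * Nat.card G :=
  sum_descFactorial 4

/-- In a group of odd order the orbits are fixed points or have at least three points. -/
theorem three_mul_orbits_le [Finite G] [Finite α] (hodd : Odd (Nat.card G)) :
    3 * Nat.card (orbitRel.Quotient G α) ≤
      Nat.card α + 2 * Nat.card (fixedPoints G α) := by
  classical
  haveI := Fintype.ofFinite α
  haveI := Fintype.ofFinite (orbitRel.Quotient G α)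
  have hsum : Nat.card α = ∑ q : orbitRel.Quotient G α, Nat.card q.orbit := by
    rw [Nat.card_congr (selfEquivSigmaOrbits' G α), Nat.card_sigma]
  have hsize : ∀ q : orbitRel.Quotient G α,
      3 ≤ Nat.card q.orbit + 2 * (if Quotient.out q ∈ fixedPoints G α then 1 else 0) := by
    intro q
    rw [orbitRel.Quotient.orbit_eq_orbit_out q Quotient.out_eq']
    have hpos : 0 < Nat.card (orbit G (Quotient.out q)) :=
      @Nat.card_pos _ ⟨⟨_, mem_orbit_self _⟩⟩ _
    split_ifs with h
    · omega
    · have hdvd : Nat.card (orbit G (Quotient.out q)) ∣ Nat.card G := by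
        rw [Nat.card_coe_set_eq, ← index_stabilizer]
        exact Subgroup.index_dvd_card _
      have hne : Nat.card (orbit G (Quotient.out q)) ≠ 1 := by
        intro h1
        refine h (mem_fixedPoints.2 fun g => ?_)
        haveI := (Nat.card_eq_one_iff_unique.1 h1).1
        exact congrArg Subtype.val (Subsingleton.elim
          (⟨g • Quotient.out q, mem_orbit _ g⟩ : orbit G (Quotient.out q))
          ⟨_, mem_orbit_self _⟩)
      have ho : Odd (Nat.card (orbit G (Quotient.out q))) := hodd.of_dvd_nat hdvd
      obtain ⟨k, hk⟩ := ho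
      omega
  have h2 := Finset.sum_le_sum (fun q (_ : q ∈ Finset.univ) => hsize q)
  rw [Finset.sum_const, Finset.sum_add_distrib, ← Finset.mul_sum, Finset.card_univ, smul_eq_mul,
    ← Nat.card_eq_fintype_card, mul_comm _ 3, ← hsum, Finset.sum_boole, Nat.cast_id] at h2
  refine h2.trans (Nat.add_le_add_left (Nat.mul_le_mul_left 2 ?_) _)
  rw [← Fintype.card_subtype, ← Nat.card_eq_fintype_card]
  exact Nat.card_le_card_of_injective (fun q => (⟨Quotient.out q.1, q.2⟩ : fixedPoints G α))
    fun q q' h => Subtype.ext (Quotient.out_injective (congrArg Subtype.val h))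

/-- A function all of whose fibres have the same size. -/
theorem fibre_dvd_card {Ω β : Type*} [Finite Ω] (F : Ω → β) {N : ℕ}
    (h : ∀ y, Nat.card {z // F z = F y} = N) : N ∣ Nat.card Ω := by
  classical
  haveI := Fintype.ofFinite (Set.range F)
  have e : Ω ≃ Σ b : Set.range F, {z // F z = b.1} :=
    { toFun := fun z => ⟨⟨F z, z, rfl⟩, ⟨z, rfl⟩⟩
      invFun := fun x => x.2.1
      left_inv := fun z => rfl
      right_inv := by
        rintro ⟨⟨b, hb⟩, ⟨z, hz⟩⟩
        simp only at hz
        subst hz
        rfl }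
  rw [Nat.card_congr e, Nat.card_sigma]
  refine Finset.dvd_sum fun b _ => ?_
  obtain ⟨b, y, rfl⟩ := b
  rw [h y]

/-- Embeddings into a subset. -/
theorem card_embedding_subtype {γ : Type*} [Finite γ] (s : Finset γ) (j : ℕ) :
    Nat.card (Fin j ↪ {z // z ∈ s}) = s.card.descFactorial j := by
  classical
  rw [Nat.card_eq_fintype_card, Fintype.card_embedding_eq, Fintype.card_fin, Fintype.card_coe]

section Triples

variable [Finite G] [Fintype α] [DecidableEq α] (h3 : IsMultiplyPretransitive G α 3)

include h3

theorem exists_smul_triple (T T' : Finset α) (hT : T.card = 3) (hT' : T'.card = 3) :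
    ∃ g : G, T.image (g • ·) = T' := by
  let x : Fin 3 ↪ α := (T.equivFinOfCardEq hT).symm.toEmbedding.trans (Function.Embedding.subtype _)
  let y : Fin 3 ↪ α := (T'.equivFinOfCardEq hT').symm.toEmbedding.trans (Function.Embedding.subtype _)
  haveI : IsPretransitive G (Fin 3 ↪ α) := h3
  obtain ⟨g, hg⟩ := exists_smul_eq G x y
  refine ⟨g, Finset.eq_of_subset_of_card_le (fun z hz => ?_) ?_⟩
  · obtain ⟨w, hw, rfl⟩ := Finset.mem_image.1 hz
    have hwx : x (T.equivFinOfCardEq hT ⟨w, hw⟩) = w := by simp [x]
    have h1 : g • x (T.equivFinOfCardEq hT ⟨w, hw⟩) = y (T.equivFinOfCardEq hT ⟨w, hw⟩) :=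
      congrArg (fun e : Fin 3 ↪ α => e (T.equivFinOfCardEq hT ⟨w, hw⟩)) hg
    rw [hwx] at h1
    rw [h1]
    simp [y]
  · rw [Finset.card_image_of_injective _ (MulAction.injective g), hT, hT']

/-- The stabilisers of triples are conjugate. -/
theorem exists_conj (T T' : Finset α) (hT : T.card = 3) (hT' : T'.card = 3) :
    ∃ g : G, ∀ k : G, k ∈ fixingSubgroup G (T : Set α) ↔
      g * k * g⁻¹ ∈ fixingSubgroup G (T' : Set α) := by
  obtain ⟨g, hg⟩ := exists_smul_triple h3 T T' hT hT'
  refine ⟨g, fun k => ?_⟩
  simp only [mem_fixingSubgroup_iff, Finset.mem_coe, ← hg, Finset.mem_image, forall_exists_index,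
    and_imp, forall_apply_eq_imp_iff₂, mul_smul, inv_smul_smul, smul_left_cancel_iff]

theorem card_fixing_eq (T T' : Finset α) (hT : T.card = 3) (hT' : T'.card = 3) :
    Nat.card (fixingSubgroup G (T : Set α)) = Nat.card (fixingSubgroup G (T' : Set α)) := by
  obtain ⟨g, hg⟩ := exists_conj h3 T T' hT hT'
  exact Nat.card_congr ((MulAut.conj g).toEquiv.subtypeEquiv hg)

theorem card_fixedPoints_eq (T T' : Finset α) (hT : T.card = 3) (hT' : T'.card = 3) :
    Nat.card (fixedPoints (fixingSubgroup G (T : Set α)) α) =
      Nat.card (fixedPoints (fixingSubgroup G (T' : Set α)) α) := by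
  obtain ⟨g, hg⟩ := exists_conj h3 T T' hT hT'
  refine Nat.card_congr ((MulAction.toPerm g).subtypeEquiv fun z => ?_)
  simp only [mem_fixedPoints, Subtype.forall, Subgroup.smul_def, MulAction.toPerm_apply]
  constructor
  · intro h k hk
    have h1 := h (g⁻¹ * k * g) ((hg _).2 (by
      rwa [show g * (g⁻¹ * k * g) * g⁻¹ = k by group]))
    rwa [mul_smul, mul_smul, inv_smul_eq_iff] at h1
  · intro h k hk
    have h1 := h _ ((hg k).1 hk)
    rwa [mul_smul, mul_smul, inv_smul_smul, smul_left_cancel_iff] at h1

/-- Triples inside the fixed points have the same stabiliser. -/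
theorem fixing_eq_iff (T T' : Finset α) (hT : T.card = 3) (hT' : T'.card = 3) :
    fixingSubgroup G (T' : Set α) = fixingSubgroup G (T : Set α) ↔
      ∀ z ∈ T', z ∈ fixedPoints (fixingSubgroup G (T : Set α)) α := by
  constructor
  · intro h z hz k
    have hk : (k : G) ∈ fixingSubgroup G (T' : Set α) := by rw [h]; exact k.2
    exact (mem_fixingSubgroup_iff G).1 hk z hz
  · intro h
    have hle : fixingSubgroup G (T : Set α) ≤ fixingSubgroup G (T' : Set α) := fun k hk =>
      (mem_fixingSubgroup_iff G).2 fun z hz => h z hz ⟨k, hk⟩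
    exact (Subgroup.eq_of_le_of_card_ge hle (card_fixing_eq h3 T T' hT hT').ge).symm

/-- The divisibility of the number of fixed points of a three-point stabiliser. -/
theorem fix_dvd (T : Finset α) (hT : T.card = 3) (A : Finset α) (j : ℕ) (hA : A.card + j = 3) :
    (Nat.card (fixedPoints (fixingSubgroup G (T : Set α)) α) - A.card).descFactorial j ∣
      (Fintype.card α - A.card).descFactorial j := by
  classical
  let tr : (Fin j ↪ {z // z ∈ Aᶜ}) → Finset α := fun y =>
    A ∪ Finset.univ.map (y.trans (Function.Embedding.subtype _))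
  have htr : ∀ y, (tr y).card = 3 := by
    intro y
    rw [Finset.card_union_of_disjoint, Finset.card_map, Finset.card_univ, Fintype.card_fin, hA]
    rw [Finset.disjoint_left]
    intro z hz hz'
    obtain ⟨i, -, rfl⟩ := Finset.mem_map.1 hz'
    exact Finset.mem_compl.1 (y i).2 hz
  rw [← Finset.card_compl, ← card_embedding_subtype]
  refine fibre_dvd_card (fun y => fixingSubgroup G ((tr y : Finset α) : Set α)) fun y => ?_
  let D : Finset α := Finset.univ.filter
    (fun z => z ∈ fixedPoints (fixingSubgroup G ((tr y : Finset α) : Set α)) α)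
  have hDcard : D.card = Nat.card (fixedPoints (fixingSubgroup G (T : Set α)) α) := by
    rw [card_fixedPoints_eq h3 T (tr y) hT (htr y), Nat.card_eq_fintype_card, ← Fintype.card_subtype]
  have hAD : A ⊆ D := fun z hz => Finset.mem_filter.2 ⟨Finset.mem_univ _, fun k =>
    (mem_fixingSubgroup_iff G).1 k.2 z (Finset.mem_union_left _ hz)⟩
  rw [← hDcard, ← Finset.card_sdiff_of_subset hAD, ← card_embedding_subtype]
  have hmem : ∀ y' : Fin j ↪ {z // z ∈ Aᶜ},
      fixingSubgroup G ((tr y' : Finset α) : Set α) = fixingSubgroup G ((tr y : Finset α) : Set α) ↔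
        ∀ i, (y' i : α) ∈ D \ A := by
    intro y'
    rw [fixing_eq_iff h3 (tr y) (tr y') (htr y) (htr y')]
    constructor
    · intro h i
      exact Finset.mem_sdiff.2 ⟨Finset.mem_filter.2 ⟨Finset.mem_univ _, h _
        (Finset.mem_union_right _ (Finset.mem_map.2 ⟨i, Finset.mem_univ _, rfl⟩))⟩,
        Finset.mem_compl.1 (y' i).2⟩
    · intro h z hz
      rcases Finset.mem_union.1 hz with hz | hz
      · exact (Finset.mem_filter.1 (hAD hz)).2
      · obtain ⟨i, -, rfl⟩ := Finset.mem_map.1 hz
        exact (Finset.mem_filter.1 (Finset.mem_sdiff.1 (h i)).1).2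
  exact Nat.card_congr
    { toFun := fun y' => ⟨fun i => ⟨(y'.1 i : α), (hmem y'.1).1 y'.2 i⟩, fun i i' h =>
        y'.1.injective (Subtype.ext (congrArg (fun w : {z // z ∈ D \ A} => (w : α)) h))⟩
      invFun := fun w => ⟨⟨fun i => ⟨(w i : α), Finset.mem_compl.2 (Finset.mem_sdiff.1 (w i).2).2⟩,
          fun i i' h => w.injective (Subtype.ext (congrArg (fun z : {z // z ∈ Aᶜ} => (z : α)) h))⟩,
        (hmem _).2 fun i => (w i).2⟩
      left_inv := fun y' => Subtype.ext (Function.Embedding.ext fun i => Subtype.ext rfl)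
      right_inv := fun w => Function.Embedding.ext fun i => Subtype.ext rfl }

/-- Orbits on quadruples give orbits of a three-point stabiliser outside the triple. -/
theorem orbits_four_le (x : Fin 3 ↪ α) :
    orb4 G α + 3 ≤ Nat.card (orbitRel.Quotient (fixingSubgroup G (Set.range x)) α) := by
  classical
  rw [orb4]
  set H := fixingSubgroup G (Set.range x)
  haveI : IsPretransitive G (Fin 3 ↪ α) := h3
  have hex : ∀ q : orbitRel.Quotient G (Fin 4 ↪ α), ∃ y : Fin 4 ↪ α,
      Quotient.mk _ y = q ∧ ∀ i : Fin 3, y i.castSucc = x i := by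
    intro q
    obtain ⟨g, hg⟩ := exists_smul_eq G (Fin.castSuccEmb.trans (Quotient.out q)) x
    refine ⟨g • Quotient.out q, ?_, fun i => congrArg (fun e : Fin 3 ↪ α => e i) hg⟩
    conv_rhs => rw [← Quotient.out_eq q]
    exact Quotient.sound ⟨g, rfl⟩
  choose y hy hyx using hex
  have hfix : ∀ (h : H) (i : Fin 3), h • x i = x i := fun h i =>
    (mem_fixingSubgroup_iff G).1 h.2 (x i) ⟨i, rfl⟩
  have hlast : ∀ q i, y q (Fin.last 3) ≠ x i := fun q i h => by
    rw [← hyx q i] at h
    exact Fin.castSucc_ne_last i ((y q).injective h).symm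
  let f : orbitRel.Quotient G (Fin 4 ↪ α) ⊕ Fin 3 → orbitRel.Quotient H α :=
    Sum.elim (fun q => Quotient.mk _ (y q (Fin.last 3))) (fun i => Quotient.mk _ (x i))
  have hf : Function.Injective f := by
    rintro (q | i) (q' | i') h
    · obtain ⟨k, hk⟩ := Quotient.exact h
      rw [← hy q, ← hy q']
      refine congrArg Sum.inl (Quotient.sound ⟨(k : G), Function.Embedding.ext fun i => ?_⟩)
      show (k : G) • y q' i = y q i
      induction i using Fin.lastCases with
      | last => exact hk
      | cast i => rw [hyx, hyx]; exact hfix k i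
    · obtain ⟨k, hk⟩ := Quotient.exact h
      exact absurd (hk.symm.trans (hfix k i')) (hlast q i')
    · obtain ⟨k, hk⟩ := Quotient.exact h.symm
      exact absurd (hk.symm.trans (hfix k i)) (hlast q' i)
    · obtain ⟨k, hk⟩ := Quotient.exact h
      exact congrArg Sum.inr (x.injective (hk.symm.trans (hfix k i')))
  have := Nat.card_le_card_of_injective f hf
  rwa [Nat.card_sum, Nat.card_eq_fintype_card (α := Fin 3), Fintype.card_fin] at this

end Triples

/-- The numerical impossibility. -/
theorem arith {p f : ℕ} (hp : p.Prime) (h5 : 5 ≤ p) (hfp : f < p) (h4 : p + 15 ≤ 4 * f)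
    (d1 : f - 2 ∣ p - 2) (d2 : (f - 1) * (f - 2) ∣ (p - 1) * (p - 2)) : False := by
  have hodd : p % 2 = 1 := (hp.eq_two_or_odd).resolve_left (by omega)
  obtain ⟨k, hk⟩ := d1
  have hk3 : k = 3 := by
    have hk1 : k ≠ 1 := fun h => by rw [h, mul_one] at hk; omega
    have hk0 : k ≠ 0 := fun h => by rw [h, mul_zero] at hk; omega
    have hk2 : k ≠ 2 := fun h => by rw [h] at hk; omega
    by_contra h
    have : (f - 2) * 4 ≤ (f - 2) * k := Nat.mul_le_mul_left _ (by omega)
    omega
  subst hk3
  have h6 : f - 1 ∣ 6 := by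
    rw [hk, show (p - 1) * ((f - 2) * 3) = 3 * (p - 1) * (f - 2) by ring,
      Nat.mul_dvd_mul_iff_right (by omega)] at d2
    have e : 9 * (f - 1) = 3 * (p - 1) + 6 := by omega
    exact (Nat.dvd_add_right d2).1 (e ▸ dvd_mul_left (f - 1) 9)
  have : f ≤ 7 := by have := Nat.le_of_dvd (by norm_num) h6; omega
  interval_cases f <;> omega

end CfsgLib.PrimeDegreeTwoP
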